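import Mathlib.RingTheory.Valuation.ValuationSubring
import Mathlib.RingTheory.AlgebraicIndependent.AlgebraicClosure
import Mathlib.RingTheory.AlgebraicIndependent.Transcendental
import Mathlib.RingTheory.LocalRing.ResidueField.Basic
import Mathlib.FieldTheory.IntermediateField.Adjoin.Basic

/-!
# Residue fields of subfields and Gauss valuations

`W` is a valuation subring of a field `Ω`. For a subfield `F`, `res W F` is the image of `W ∩ F` in the
residue field of `W`. If the residues of a family `x` are algebraically independent over `res W F` then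
the value of a polynomial in `x` over `F` is the largest value of a coefficient.
-/

set_option autoImplicit false
set_option linter.unusedSectionVars false
set_option linter.style.haveILetI false

universe u

open IsLocalRing MvPolynomial

namespace Groth.Agent.Sol23

variable {Ω : Type u} [Field Ω] (W : ValuationSubring Ω)

theorem res_eq_zero {a : Ω} (ha : a ∈ W) : residue W ⟨a, ha⟩ = 0 ↔ W.valuation a < 1 :=
  (residue_eq_zero_iff _).trans (W.valuation_lt_one_iff ⟨a, ha⟩)

theorem val_eq_one {a : Ω} (ha : a ∈ W) (h : residue W ⟨a, ha⟩ ≠ 0) : W.valuation a = 1 :=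
  le_antisymm ((W.valuation_le_one_iff a).2 ha) (not_lt.1 fun hlt => h ((res_eq_zero W ha).2 hlt))

theorem residue_inv {a : Ω} (ha : a ∈ W) (h : residue W ⟨a, ha⟩ ≠ 0) :
    ∃ hi : a⁻¹ ∈ W, residue W ⟨a⁻¹, hi⟩ = (residue W ⟨a, ha⟩)⁻¹ := by
  have hi : a⁻¹ ∈ W := by rw [← W.valuation_le_one_iff, map_inv₀, val_eq_one W ha h, inv_one]
  refine ⟨hi, eq_inv_of_mul_eq_one_right ?_⟩
  rw [← map_mul, ← map_one (residue W)]
  refine congrArg _ (Subtype.ext (mul_inv_cancel₀ fun h0 => h ?_))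
  exact (res_eq_zero W ha).2 (by rw [show a = 0 from h0, map_zero]; exact zero_lt_one)

/-- The residues of the elements of a subfield. -/
def res (F : Subfield Ω) : Subfield (ResidueField W) where
  __ := (Subring.comap W.subtype F.toSubring).map (residue W)
  inv_mem' := by
    rintro _ ⟨⟨a, ha⟩, haF, rfl⟩
    rcases eq_or_ne (residue W ⟨a, ha⟩) 0 with h | h
    · rw [h, inv_zero]; exact ((Subring.comap W.subtype F.toSubring).map (residue W)).zero_mem
    obtain ⟨hi, he⟩ := residue_inv W ha h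
    exact ⟨⟨a⁻¹, hi⟩, F.inv_mem haF, he⟩

theorem mem_res {F : Subfield Ω} {r : ResidueField W} :
    r ∈ res W F ↔ ∃ (a : Ω) (ha : a ∈ W), a ∈ F ∧ residue W ⟨a, ha⟩ = r :=
  ⟨fun ⟨⟨a, ha⟩, haF, e⟩ => ⟨a, ha, haF, e⟩, fun ⟨a, ha, haF, e⟩ => ⟨⟨a, ha⟩, haF, e⟩⟩

theorem residue_mem_res {F : Subfield Ω} {a : Ω} (ha : a ∈ W) (haF : a ∈ F) :
    residue W ⟨a, ha⟩ ∈ res W F :=
  ⟨⟨a, ha⟩, haF, rfl⟩

theorem res_mono {F F' : Subfield Ω} (h : F ≤ F') : res W F ≤ res W F' :=
  fun _ ⟨a, ha, e⟩ => ⟨a, h ha, e⟩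

variable {σ : Type u}

/-- The field generated by a subfield and a family. -/
def bas (x : σ → Ω) (F : Subfield Ω) : Subfield Ω := Subfield.closure ((F : Set Ω) ∪ Set.range x)

theorem le_bas (x : σ → Ω) (F : Subfield Ω) : F ≤ bas x F :=
  fun _ h => Subfield.subset_closure (Or.inl h)

theorem mem_bas_var (x : σ → Ω) (F : Subfield Ω) (i : σ) : x i ∈ bas x F :=
  Subfield.subset_closure (Or.inr ⟨i, rfl⟩)

theorem bas_mono (x : σ → Ω) {F F' : Subfield Ω} (h : F ≤ F') : bas x F ≤ bas x F' :=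
  Subfield.closure_mono (Set.union_subset_union_left _ h)

theorem bas_eq (x : σ → Ω) (F : Subfield Ω) :
    bas x F = (IntermediateField.adjoin F (Set.range x)).toSubfield := by
  rw [IntermediateField.adjoin_toSubfield]
  have e : Set.range (algebraMap F Ω) = (F : Set Ω) := by
    ext a
    exact ⟨fun ⟨b, hb⟩ => hb ▸ b.2, fun ha => ⟨⟨a, ha⟩, rfl⟩⟩
  rw [e]
  rfl

theorem aeval_mem_bas (x : σ → Ω) (F : Subfield Ω) (P : MvPolynomial σ F) : aeval x P ∈ bas x F := by
  induction P using MvPolynomial.induction_on with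
  | C a => rw [aeval_C]; exact le_bas x F a.2
  | add P Q hP hQ => rw [map_add]; exact add_mem hP hQ
  | mul_X P i hP => rw [map_mul, aeval_X]; exact mul_mem hP (mem_bas_var x F i)

theorem exists_div_of_mem_bas {x : σ → Ω} {F : Subfield Ω} {f : Ω} (hf : f ∈ bas x F) :
    ∃ P Q : MvPolynomial σ F, f = aeval x P / aeval x Q := by
  rw [bas_eq] at hf
  exact (IntermediateField.mem_adjoin_range_iff F x f).1 hf

variable {x : σ → Ω} (hx : ∀ i, x i ∈ W)

/-- The residue of a polynomial with integral coefficients. -/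
theorem residue_aeval {F : Subfield Ω} (P : MvPolynomial σ F) (hP : ∀ m, ((P.coeff m : F) : Ω) ∈ W) :
    ∃ (h : aeval x P ∈ W) (R : MvPolynomial σ (res W F)),
      residue W ⟨aeval x P, h⟩ = aeval (fun i => residue W ⟨x i, hx i⟩) R ∧
      ∀ m, ((R.coeff m : res W F) : ResidueField W) = residue W ⟨((P.coeff m : F) : Ω), hP m⟩ := by
  classical
  let R : MvPolynomial σ (res W F) := ∑ m ∈ P.support,
    monomial m ⟨_, residue_mem_res W (hP m) (P.coeff m).2⟩
  have hR : ∀ m, ((R.coeff m : res W F) : ResidueField W) =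
      residue W ⟨((P.coeff m : F) : Ω), hP m⟩ := by
    intro m
    simp only [R, coeff_sum, coeff_monomial]
    rw [Finset.sum_ite_eq']
    split_ifs with h
    · rfl
    · symm
      rw [show ((0 : res W F) : ResidueField W) = 0 from rfl, ← map_zero (residue W)]
      exact congrArg _ (Subtype.ext (show ((P.coeff m : F) : Ω) = 0 by
        rw [notMem_support_iff.1 h]; rfl))
  let val : W := ∑ m ∈ P.support, ⟨((P.coeff m : F) : Ω), hP m⟩ * ∏ i ∈ m.support, ⟨x i, hx i⟩ ^ m i
  have hval : (val : Ω) = aeval x P := by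
    simp only [val, AddSubmonoidClass.coe_finsetSum, aeval_def, eval₂_eq]
    refine Finset.sum_congr rfl fun m _ => ?_
    simp only [MulMemClass.coe_mul, SubmonoidClass.coe_finsetProd, SubmonoidClass.coe_pow]
    rfl
  refine ⟨hval ▸ val.2, R, ?_, hR⟩
  rw [show (⟨aeval x P, hval ▸ val.2⟩ : W) = val from Subtype.ext hval.symm]
  simp only [val, R, map_sum, map_mul, map_prod, map_pow, aeval_monomial, Finsupp.prod]
  rfl


/-- A nonzero polynomial is a constant times a unit with nonzero residue. -/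
theorem gauss {F : Subfield Ω}
    (hind : AlgebraicIndependent (res W F) fun i => residue W ⟨x i, hx i⟩)
    {P : MvPolynomial σ F} (hP : P ≠ 0) :
    ∃ c ∈ F, c ≠ 0 ∧ ∃ (h : aeval x P / c ∈ W) (R : MvPolynomial σ (res W F)), R ≠ 0 ∧
      residue W ⟨aeval x P / c, h⟩ = aeval (fun i => residue W ⟨x i, hx i⟩) R ∧
      aeval (fun i => residue W ⟨x i, hx i⟩) R ≠ 0 := by
  classical
  obtain ⟨m₀, hm₀, hmax⟩ := P.support.exists_max_image
    (fun m => W.valuation ((P.coeff m : F) : Ω)) (support_nonempty.2 hP)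
  set c := P.coeff m₀
  have hc : (c : Ω) ≠ 0 := fun h => mem_support_iff.1 hm₀ (Subtype.ext h)
  let Q : MvPolynomial σ F := C c⁻¹ * P
  have hQc : ∀ m, ((Q.coeff m : F) : Ω) = (c : Ω)⁻¹ * ((P.coeff m : F) : Ω) := fun m => by
    simp only [Q, coeff_C_mul]
    rfl
  have hQ : ∀ m, ((Q.coeff m : F) : Ω) ∈ W := by
    intro m
    rw [hQc]
    by_cases hm : P.coeff m = 0
    · rw [hm]; simp
    rw [← W.valuation_le_one_iff, map_mul, map_inv₀]
    exact (inv_mul_le_one₀ (zero_lt_iff.2 (W.valuation.ne_zero_iff.2 hc))).2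
      (hmax m (mem_support_iff.2 hm))
  obtain ⟨h, R, hR, hRc⟩ := residue_aeval W hx Q hQ
  have hR0 : R ≠ 0 := fun h0 => by
    have h1 := hRc m₀
    rw [h0, coeff_zero] at h1
    have h2 : residue W ⟨((Q.coeff m₀ : F) : Ω), hQ m₀⟩ = residue W 1 := congrArg _ (Subtype.ext (by
      rw [hQc]; exact inv_mul_cancel₀ hc))
    rw [h2, map_one] at h1
    exact zero_ne_one h1
  have e : aeval x Q = aeval x P / (c : Ω) := by
    rw [map_mul, aeval_C, div_eq_mul_inv, mul_comm]
    rfl
  refine ⟨c, c.2, hc, e ▸ h, R, hR0, ?_, fun h0 => hR0 (hind.eq_zero_of_aeval_eq_zero R h0)⟩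
  rw [← hR]
  exact congrArg _ (Subtype.ext e.symm)

/-- A nonzero element of `F(x)` is a constant times a unit. -/
theorem gauss_frac {F : Subfield Ω}
    (hind : AlgebraicIndependent (res W F) fun i => residue W ⟨x i, hx i⟩)
    {f : Ω} (hf : f ∈ bas x F) (hf0 : f ≠ 0) :
    ∃ c ∈ F, c ≠ 0 ∧ ∃ (h : f / c ∈ W) (R₁ R₂ : MvPolynomial σ (res W F)),
      aeval (fun i => residue W ⟨x i, hx i⟩) R₁ ≠ 0 ∧ aeval (fun i => residue W ⟨x i, hx i⟩) R₂ ≠ 0 ∧
      residue W ⟨f / c, h⟩ = aeval (fun i => residue W ⟨x i, hx i⟩) R₁ /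
        aeval (fun i => residue W ⟨x i, hx i⟩) R₂ := by
  obtain ⟨P, Q, rfl⟩ := exists_div_of_mem_bas hf
  have hP : P ≠ 0 := fun h => hf0 (by rw [h, map_zero, zero_div])
  have hQ : Q ≠ 0 := fun h => hf0 (by rw [h, map_zero, div_zero])
  obtain ⟨c, hc, hc0, hcP, R₁, -, hR₁, hR₁0⟩ := gauss W hx hind hP
  obtain ⟨d, hd, hd0, hdQ, R₂, -, hR₂, hR₂0⟩ := gauss W hx hind hQ
  obtain ⟨hi, hie⟩ := residue_inv W hdQ (hR₂ ▸ hR₂0)
  have e : aeval x P / aeval x Q / (c / d) = aeval x P / c * (aeval x Q / d)⁻¹ := by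
    field_simp
  have hmem : aeval x P / aeval x Q / (c / d) ∈ W := e ▸ mul_mem hcP hi
  refine ⟨c / d, div_mem hc hd, div_ne_zero hc0 hd0, hmem, R₁, R₂, hR₁0, hR₂0, ?_⟩
  rw [show (⟨_, hmem⟩ : W) = ⟨_, hcP⟩ * ⟨_, hi⟩ from Subtype.ext e, map_mul, hie, hR₁, hR₂,
    div_eq_mul_inv]

/-- Elements of `F(x)` have the values of elements of `F`. -/
theorem exists_val_eq {F : Subfield Ω}
    (hind : AlgebraicIndependent (res W F) fun i => residue W ⟨x i, hx i⟩)
    {f : Ω} (hf : f ∈ bas x F) : ∃ c ∈ F, W.valuation f = W.valuation c := by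
  rcases eq_or_ne f 0 with rfl | hf0
  · exact ⟨0, F.zero_mem, rfl⟩
  obtain ⟨c, hc, hc0, h, R₁, R₂, h1, h2, he⟩ := gauss_frac W hx hind hf hf0
  refine ⟨c, hc, ?_⟩
  have hv := val_eq_one W h (he ▸ div_ne_zero h1 h2)
  rw [map_div₀, div_eq_one_iff_eq (W.valuation.ne_zero_iff.2 hc0)] at hv
  exact hv

/-- The residue field of `F(x)` is generated by the residues. -/
theorem res_bas {F : Subfield Ω}
    (hind : AlgebraicIndependent (res W F) fun i => residue W ⟨x i, hx i⟩)
    {r : ResidueField W} (hr : r ∈ res W (bas x F)) :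
    ∃ R₁ R₂ : MvPolynomial σ (res W F), aeval (fun i => residue W ⟨x i, hx i⟩) R₂ ≠ 0 ∧
      r = aeval (fun i => residue W ⟨x i, hx i⟩) R₁ / aeval (fun i => residue W ⟨x i, hx i⟩) R₂ := by
  classical
  obtain ⟨f, hf, hfF, rfl⟩ := (mem_res W).1 hr
  rcases eq_or_ne (residue W ⟨f, hf⟩) 0 with h0 | h0
  · exact ⟨0, 1, by simp, by rw [h0, map_zero, zero_div]⟩
  have hf0 : f ≠ 0 := fun h => h0 ((res_eq_zero W hf).2 (by rw [h, map_zero]; exact zero_lt_one))
  obtain ⟨c, hc, hc0, h, R₁, R₂, h1, h2, he⟩ := gauss_frac W hx hind hfF hf0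
  have hcW : W.valuation c = 1 := by
    have hv := val_eq_one W h (he ▸ div_ne_zero h1 h2)
    rw [map_div₀, div_eq_one_iff_eq (W.valuation.ne_zero_iff.2 hc0), val_eq_one W hf h0] at hv
    exact hv.symm
  have hcm : c ∈ W := (W.valuation_le_one_iff c).1 hcW.le
  refine ⟨C ⟨_, residue_mem_res W hcm hc⟩ * R₁, R₂, h2, ?_⟩
  rw [map_mul, aeval_C, mul_div_assoc, ← he]
  show residue W ⟨f, hf⟩ = residue W ⟨c, hcm⟩ * residue W ⟨f / c, h⟩
  rw [← map_mul]
  exact congrArg _ (Subtype.ext (by show f = c * (f / c); field_simp))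

/-- Two valuation subrings agreeing on `F` with independent residues of `x` agree on `F(x)`. -/
theorem gauss_unique {F : Subfield Ω} {W' : ValuationSubring Ω} (hx' : ∀ i, x i ∈ W')
    (hind : AlgebraicIndependent (res W F) fun i => residue W ⟨x i, hx i⟩)
    (hind' : AlgebraicIndependent (res W' F) fun i => residue W' ⟨x i, hx' i⟩)
    (hF : ∀ c ∈ F, c ∈ W ↔ c ∈ W') {f : Ω} (hf : f ∈ bas x F) : f ∈ W ↔ f ∈ W' := by
  classical
  rcases eq_or_ne f 0 with rfl | hf0
  · simp
  obtain ⟨P, Q, rfl⟩ := exists_div_of_mem_bas hf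
  have hP : P ≠ 0 := fun h => hf0 (by rw [h, map_zero, zero_div])
  have hQ : Q ≠ 0 := fun h => hf0 (by rw [h, map_zero, div_zero])
  -- the value of a polynomial is the value of a largest coefficient
  have key : ∀ (V : ValuationSubring Ω) (hV : ∀ i, x i ∈ V),
      AlgebraicIndependent (res V F) (fun i => residue V ⟨x i, hV i⟩) →
      ∀ P : MvPolynomial σ F, P ≠ 0 →
        ∃ m, P.coeff m ≠ 0 ∧ V.valuation (aeval x P) = V.valuation ((P.coeff m : F) : Ω) ∧
          ∀ m', V.valuation ((P.coeff m' : F) : Ω) ≤ V.valuation ((P.coeff m : F) : Ω) := by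
    intro V hV hi P hP
    obtain ⟨c, hc, hc0, h, R, -, hR, hR0⟩ := gauss V hV hi hP
    have hv := val_eq_one V h (hR ▸ hR0)
    rw [map_div₀, div_eq_one_iff_eq (V.valuation.ne_zero_iff.2 hc0)] at hv
    obtain ⟨m, hm, hmax⟩ := P.support.exists_max_image
      (fun m => V.valuation ((P.coeff m : F) : Ω)) (support_nonempty.2 hP)
    have hle : ∀ m', V.valuation ((P.coeff m' : F) : Ω) ≤ V.valuation ((P.coeff m : F) : Ω) := fun m' => by
      by_cases h0 : P.coeff m' = 0
      · rw [h0, ZeroMemClass.coe_zero, map_zero]; exact zero_le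
      · exact hmax m' (mem_support_iff.2 h0)
    refine ⟨m, mem_support_iff.1 hm, le_antisymm ?_ ?_, hle⟩
    · rw [aeval_def, eval₂_eq]
      refine Valuation.map_sum_le _ fun m' _ => ?_
      rw [map_mul]
      refine le_trans (mul_le_of_le_one_right' ?_) (hle m')
      exact (V.valuation_le_one_iff _).2 (prod_mem fun i _ => pow_mem (hV i) _)
    · by_contra hlt
      rw [not_le] at hlt
      have hcm : ((P.coeff m : F) : Ω) ≠ 0 := fun h0 => mem_support_iff.1 hm (Subtype.ext h0)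
      let Q : MvPolynomial σ F := MvPolynomial.C (P.coeff m)⁻¹ * P
      have hQc : ∀ k, ((Q.coeff k : F) : Ω) = ((P.coeff m : F) : Ω)⁻¹ * ((P.coeff k : F) : Ω) := fun k => by
        simp only [Q, coeff_C_mul]
        rfl
      have hQW : ∀ k, ((Q.coeff k : F) : Ω) ∈ V := fun k => by
        rw [hQc, ← V.valuation_le_one_iff, map_mul, map_inv₀]
        exact (inv_mul_le_one₀ (zero_lt_iff.2 (V.valuation.ne_zero_iff.2 hcm))).2 (hle k)
      obtain ⟨hQ', R', hR', hRc'⟩ := residue_aeval V hV Q hQW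
      have h0 : residue V ⟨_, hQ'⟩ = 0 := (res_eq_zero V hQ').2 (by
        rw [map_mul, aeval_C, map_mul]
        show V.valuation (((P.coeff m : F) : Ω)⁻¹) * _ < 1
        rw [map_inv₀]
        exact (inv_mul_lt_one₀ (zero_lt_iff.2 (V.valuation.ne_zero_iff.2 hcm))).2 hlt)
      have h1 := hi.eq_zero_of_aeval_eq_zero R' (hR'.symm.trans h0)
      have h2 := hRc' m
      rw [h1, coeff_zero] at h2
      have h3 : residue V ⟨((Q.coeff m : F) : Ω), hQW m⟩ = residue V 1 := congrArg _ (Subtype.ext (by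
        rw [hQc]; exact inv_mul_cancel₀ hcm))
      rw [h3, map_one] at h2
      exact zero_ne_one h2
  obtain ⟨m, hm0, hm, hmle⟩ := key W hx hind P hP
  obtain ⟨n, hn0, hn, hnle⟩ := key W hx hind Q hQ
  obtain ⟨m', hm'0, hm', hm'le⟩ := key W' hx' hind' P hP
  obtain ⟨n', hn'0, hn', hn'le⟩ := key W' hx' hind' Q hQ
  -- comparing elements of `F`
  have cmp : ∀ a b : F, b ≠ 0 → (W.valuation (a : Ω) ≤ W.valuation (b : Ω) ↔
      W'.valuation (a : Ω) ≤ W'.valuation (b : Ω)) := by
    intro a b hb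
    have hb' : (b : Ω) ≠ 0 := fun h => hb (Subtype.ext h)
    have hle : ∀ V : ValuationSubring Ω, V.valuation (a : Ω) ≤ V.valuation (b : Ω) ↔ (a / b : Ω) ∈ V :=
      fun V => by
        rw [← V.valuation_le_one_iff, map_div₀, div_le_one₀ (zero_lt_iff.2 (V.valuation.ne_zero_iff.2 hb'))]
    rw [hle W, hle W']
    exact hF _ (div_mem a.2 b.2)
  have hQ0 : ∀ V : ValuationSubring Ω, V.valuation (aeval x Q) ≠ 0 := fun V =>
    V.valuation.ne_zero_iff.2 fun h => hf0 (by rw [h, div_zero])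
  rw [← W.valuation_le_one_iff, ← W'.valuation_le_one_iff, map_div₀, map_div₀,
    div_le_one₀ (zero_lt_iff.2 (hQ0 W)), div_le_one₀ (zero_lt_iff.2 (hQ0 W')), hm, hn, hm', hn']
  constructor
  · intro h
    refine ((cmp _ _ hn0).1 ?_).trans (hn'le n)
    exact (hmle m').trans h
  · intro h
    refine ((cmp _ _ hn'0).2 ?_).trans (hnle n')
    exact (hm'le m).trans h

/-- Independent residues over `res F` stay so over algebraic extensions. -/
theorem algebraicIndependent_res {F₀ F : Subfield Ω} (hle : F₀ ≤ F)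
    (halg : ∀ a ∈ F, IsAlgebraic F₀ a) {ι : Type u} {r : ι → ResidueField W}
    (hr : AlgebraicIndependent (res W F₀) r) : AlgebraicIndependent (res W F) r := by
  letI : Algebra (res W F₀) (res W F) := (Subfield.inclusion (res_mono W hle)).toAlgebra
  haveI : IsScalarTower (res W F₀) (res W F) (ResidueField W) := .of_algebraMap_eq fun _ => rfl
  haveI : Algebra.IsAlgebraic (res W F₀) (res W F) := ⟨fun b => by
    obtain ⟨a, ha, haF, hab⟩ := (mem_res W).1 b.2
    rw [← isAlgebraic_algebraMap_iff (A := ResidueField W) (algebraMap (res W F) (ResidueField W)).injective]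
    show IsAlgebraic (res W F₀) (b : ResidueField W)
    rw [← hab]
    by_contra hnot
    have hind : AlgebraicIndependent (res W F₀)
        fun _ : PUnit.{u+1} => residue W ⟨a, ha⟩ :=
      algebraicIndependent_unique_type_iff.2 hnot
    have hi2 : AlgebraicIndependent F₀ fun _ : PUnit.{u+1} => a := by
      rw [algebraicIndependent_iff]
      intro P hP
      by_contra hP0
      obtain ⟨c, hc, hc0, h, R, -, hR, hR0⟩ := gauss W (x := fun _ : PUnit.{u+1} => a) (fun _ => ha) hind hP0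
      refine hR0 (hR.symm.trans ((res_eq_zero W h).2 ?_))
      rw [hP, zero_div, map_zero]
      exact zero_lt_one
    exact (algebraicIndependent_unique_type_iff.1 hi2 : Transcendental F₀ a) (halg a haF)⟩
  exact hr.extendScalars (res W F)

end Groth.Agent.Sol23
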