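import Mathlib.RingTheory.Polynomial.UniqueFactorization
import Mathlib.Algebra.MvPolynomial.NoZeroDivisors
import Mathlib.FieldTheory.SeparableDegree
import Groth.Agent.Epp23.PerfCore
import Groth.Agent.Sol23.Res

/-!
# Roots of all orders in a finite extension of a rational function field
-/

set_option autoImplicit false
set_option linter.unusedSectionVars false
set_option linter.style.haveILetI false

universe u

open IsLocalRing MvPolynomial

namespace Groth.Agent.Sol23

variable {Θ : Type u} [Field Θ] {σ : Type u}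

theorem mem_of_roots (p : ℕ) [hp : Fact p.Prime] (k : Subfield Θ) {xb : σ → Θ}
    (hind : AlgebraicIndependent k xb) {r : Θ}
    (hr : r ∈ IntermediateField.adjoin k (Set.range xb))
    (h : ∀ n : ℕ, ∃ y ∈ IntermediateField.adjoin k (Set.range xb), y ^ p ^ n = r) : r ∈ k := by
  classical
  rcases eq_or_ne r 0 with rfl | hr0
  · exact k.zero_mem
  obtain ⟨P, Q, rfl⟩ := (IntermediateField.mem_adjoin_range_iff k xb r).1 hr
  have hP : P ≠ 0 := fun h => hr0 (by rw [h, map_zero, zero_div])
  have hQ : Q ≠ 0 := fun h => hr0 (by rw [h, map_zero, div_zero])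
  obtain ⟨n, hn⟩ : ∃ n, max P.totalDegree Q.totalDegree < p ^ n := ⟨_, Nat.lt_pow_self hp.out.one_lt⟩
  obtain ⟨y, hy, hyn⟩ := h n
  set N := p ^ n
  obtain ⟨a, b, rfl⟩ := (IntermediateField.mem_adjoin_range_iff k xb y).1 hy
  have hN : N ≠ 0 := pow_ne_zero _ hp.out.ne_zero
  have ha : a ≠ 0 := fun h => hr0 (by rw [← hyn, h, map_zero, zero_div, zero_pow hN])
  have hb : b ≠ 0 := fun h => hr0 (by rw [← hyn, h, map_zero, div_zero, zero_pow hN])
  obtain ⟨a', b', c, hrel, hca, hcb⟩ := UniqueFactorizationMonoid.exists_reduced_factors a ha b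
  have hc : c ≠ 0 := left_ne_zero_of_mul (hca ▸ ha)
  have ha' : a' ≠ 0 := right_ne_zero_of_mul (hca ▸ ha)
  have hb' : b' ≠ 0 := right_ne_zero_of_mul (hcb ▸ hb)
  have hz : ∀ q : MvPolynomial σ k, q ≠ 0 → aeval xb q ≠ 0 := fun q hq h0 =>
    hq (hind.eq_zero_of_aeval_eq_zero q h0)
  have hy' : aeval xb a / aeval xb b = aeval xb a' / aeval xb b' := by
    rw [← hca, ← hcb, map_mul, map_mul, mul_div_mul_left _ _ (hz c hc)]
  rw [hy', div_pow, div_eq_div_iff (pow_ne_zero _ (hz _ hb')) (hz _ hQ), ← map_pow, ← map_pow,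
    ← map_mul, ← map_mul] at hyn
  have key : a' ^ N * Q = P * b' ^ N := hind hyn
  have hdeg : ∀ q R : MvPolynomial σ k, q ≠ 0 → R ≠ 0 → q ^ N ∣ R → R.totalDegree < N →
      ∃ c, q = C c := by
    intro q R hq hR ⟨t, ht⟩ hlt
    have ht0 : t ≠ 0 := fun h => hR (by rw [ht, h, mul_zero])
    have h1 : R.totalDegree = (q ^ N).totalDegree + t.totalDegree := by
      rw [ht]; exact totalDegree_mul_of_isDomain (pow_ne_zero _ hq) ht0
    have h2 : ∀ m : ℕ, (q ^ m).totalDegree = m * q.totalDegree := by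
      intro m
      induction m with
      | zero => simp
      | succ m ih =>
        rw [pow_succ, totalDegree_mul_of_isDomain (pow_ne_zero _ hq) hq, ih]
        ring
    refine ⟨_, totalDegree_eq_zero_iff_eq_C.1 ?_⟩
    by_contra h0
    rw [h2] at h1
    have : N * 1 ≤ N * q.totalDegree := Nat.mul_le_mul_left _ (Nat.one_le_iff_ne_zero.2 h0)
    omega
  obtain ⟨ca, rfl⟩ := hdeg a' P ha' hP (((hrel.pow_right (n := N)).pow_left (m := N)).dvd_of_dvd_mul_right
    ⟨Q, key.symm⟩) (lt_of_le_of_lt (le_max_left _ _) hn)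
  obtain ⟨cb, rfl⟩ := hdeg b' Q hb' hQ (((hrel.symm.pow_right (n := N)).pow_left (m := N)).dvd_of_dvd_mul_left
    ⟨P, key.trans (mul_comm _ _)⟩) (lt_of_le_of_lt (le_max_right _ _) hn)
  have h3 : aeval xb P / aeval xb Q = ((ca / cb : k) : Θ) ^ N := by
    rw [eq_comm, Subfield.coe_div, div_pow, div_eq_div_iff
      (pow_ne_zero _ fun h => hb' (by rw [show cb = 0 from Subtype.ext h, map_zero])) (hz _ hQ)]
    simp only [map_mul, map_pow, aeval_C] at hyn
    exact hyn
  rw [h3]
  exact pow_mem (ca / cb : k).2 _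

section

variable {Ω : Type u} [Field Ω] (W : ValuationSubring Ω)

/-- Residues of a finite extension have bounded degree. -/
theorem exists_residue_poly {F : Subfield Ω} {E : IntermediateField F Ω} [FiniteDimensional F E]
    {a : Ω} (haW : a ∈ W) (haE : a ∈ E) :
    ∃ R : Polynomial (res W F), R ≠ 0 ∧ R.natDegree ≤ Module.finrank F E ∧
      Polynomial.aeval (residue W ⟨a, haW⟩) R = 0 := by
  classical
  have hint : IsIntegral F a := (IsIntegral.of_finite F (⟨a, haE⟩ : E)).map E.val
  set P := minpoly F a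
  have hPd : P.natDegree ≤ Module.finrank F E := by
    have h := minpoly.natDegree_le (A := F) (⟨a, haE⟩ : E)
    rwa [← minpoly.algebraMap_eq (algebraMap E Ω).injective (⟨a, haE⟩ : E)] at h
  obtain ⟨m, hm, hmax⟩ := P.support.exists_max_image (fun i => W.valuation ((P.coeff i : F) : Ω))
    (Polynomial.support_nonempty.2 (minpoly.ne_zero hint))
  set c := P.coeff m
  have hc : (c : Ω) ≠ 0 := fun h => Polynomial.mem_support_iff.1 hm (Subtype.ext h)
  have hci : ∀ i, ((c⁻¹ * P.coeff i : F) : Ω) ∈ W := fun i => by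
    rw [Subfield.coe_mul, Subfield.coe_inv]
    by_cases hi : P.coeff i = 0
    · rw [hi]; simp
    rw [← W.valuation_le_one_iff, map_mul, map_inv₀]
    exact (inv_mul_le_one₀ (zero_lt_iff.2 (W.valuation.ne_zero_iff.2 hc))).2
      (hmax i (Polynomial.mem_support_iff.2 hi))
  let R : Polynomial (res W F) := ∑ i ∈ Finset.range (P.natDegree + 1),
    Polynomial.monomial i ⟨_, residue_mem_res W (hci i) (c⁻¹ * P.coeff i).2⟩
  refine ⟨R, fun h => ?_, ?_, ?_⟩
  · have h1 := congrArg (fun q => ((q.coeff m : res W F) : ResidueField W)) h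
    simp only [R, Polynomial.finsetSum_coeff, Polynomial.coeff_monomial, Finset.sum_ite_eq',
      Finset.mem_range, Nat.lt_succ_of_le (Polynomial.le_natDegree_of_mem_supp m hm), if_true,
      Polynomial.coeff_zero, ZeroMemClass.coe_zero] at h1
    rw [res_eq_zero, Subfield.coe_mul, Subfield.coe_inv, inv_mul_cancel₀ hc, map_one] at h1
    exact lt_irrefl _ h1
  · refine (Polynomial.natDegree_sum_le _ _).trans (Finset.fold_max_le _ |>.2 ⟨Nat.zero_le _, fun i hi => ?_⟩)
    exact (Polynomial.natDegree_monomial_le _).trans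
      ((Nat.le_of_lt_succ (Finset.mem_range.1 hi)).trans hPd)
  · simp only [R, map_sum, Polynomial.aeval_monomial]
    show ∑ i ∈ Finset.range (P.natDegree + 1), residue W ⟨_, hci i⟩ * residue W ⟨a, haW⟩ ^ i = 0
    simp only [← map_pow, ← map_mul, ← map_sum]
    rw [residue_eq_zero_iff, W.valuation_lt_one_iff]
    have h0 : ∑ i ∈ Finset.range (P.natDegree + 1), ((P.coeff i : F) : Ω) * a ^ i = 0 := by
      have := minpoly.aeval F a
      rw [Polynomial.aeval_eq_sum_range] at this
      exact this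
    simp only [AddSubmonoidClass.coe_finsetSum, MulMemClass.coe_mul, SubmonoidClass.coe_pow,
      Subfield.coe_mul, Subfield.coe_inv, mul_assoc, ← Finset.mul_sum, h0, mul_zero, map_zero,
      zero_lt_one]

end

/-- Elements with roots of all orders in an extension of bounded degree are separable over `k`. -/
theorem isSeparable_of_roots_bdd (p : ℕ) [hp : Fact p.Prime] [CharP Θ p] (k : Subfield Θ) {xb : σ → Θ}
    (hind : AlgebraicIndependent k xb) (n : ℕ) {S : Set Θ}
    (hS : ∀ y ∈ S, ∃ R : Polynomial (IntermediateField.adjoin k (Set.range xb)),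
      R ≠ 0 ∧ R.natDegree ≤ n ∧ Polynomial.aeval y R = 0)
    {x : Θ} (hx : ∀ j : ℕ, ∃ y ∈ S, y ^ p ^ j = x) : IsSeparable k x := by
  let κ0 := IntermediateField.adjoin k (Set.range xb)
  haveI : CharP κ0 p := (κ0.val.toRingHom).charP κ0.val.toRingHom.injective p
  have hexp : ∀ y ∈ S, IsSeparable κ0 (y ^ p ^ n) := by
    intro y hy
    obtain ⟨R, hR, hRd, hRy⟩ := hS y hy
    have hint : IsIntegral κ0 y := IsAlgebraic.isIntegral ⟨R, hR, hRy⟩
    obtain ⟨d, hd⟩ := Irreducible.hasSeparableContraction p (minpoly.irreducible hint) (F := κ0)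
    obtain ⟨hsep, m, hm⟩ := hd
    have h1 : Polynomial.aeval (y ^ p ^ m) d = 0 := by
      rw [← Polynomial.expand_aeval, hm, minpoly.aeval]
    have hmn : m ≤ n := by
      have h2 : (minpoly κ0 y).natDegree = d.natDegree * p ^ m := by
        rw [← hm, Polynomial.natDegree_expand]
      have h3 : (minpoly κ0 y).natDegree ≤ n :=
        (Polynomial.natDegree_le_of_dvd (minpoly.dvd κ0 y hRy) hR).trans hRd
      have h4 : 0 < d.natDegree := by
        have := minpoly.natDegree_pos hint
        rw [h2] at this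
        exact Nat.pos_of_mul_pos_right this
      have h5 : p ^ m ≤ n := (Nat.le_mul_of_pos_left _ h4).trans (h2 ▸ h3)
      exact (Nat.lt_pow_self hp.out.one_lt).le.trans h5
    have h6 : IsSeparable κ0 (y ^ p ^ m) := Polynomial.Separable.of_dvd hsep (minpoly.dvd κ0 _ h1)
    obtain ⟨t, rfl⟩ := Nat.exists_eq_add_of_le hmn
    rw [pow_add, pow_mul]
    exact mem_separableClosure_iff.1 (pow_mem (mem_separableClosure_iff.2 h6) _)
  refine Epp23.isSeparable_of_roots p κ0 (k := k) (fun c hc => ?_) fun j => ?_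
  · have hck : (c : Θ) ∈ k := by
      refine mem_of_roots p k hind c.2 fun i => ?_
      obtain ⟨y, hy⟩ := (Epp23.mem_perfCore p κ0).1 hc i
      exact ⟨y, y.2, congrArg Subtype.val hy⟩
    have : c = algebraMap k κ0 ⟨(c : Θ), hck⟩ := Subtype.ext rfl
    rw [this]
    exact isSeparable_algebraMap _
  · obtain ⟨y, hy, hyx⟩ := hx (n + j)
    exact ⟨y ^ p ^ n, hexp y hy, by rw [← pow_mul, ← pow_add, hyx]⟩

end Groth.Agent.Sol23
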