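import Mathlib.RingTheory.Nilpotent.GeometricallyReduced
import Mathlib.RingTheory.DiscreteValuationRing.Basic
import Mathlib.LinearAlgebra.TensorProduct.Basis
import Groth.Agent.Sol23.Res

/-!
# Disjointness of residue fields and geometric reducedness
-/

set_option autoImplicit false
set_option linter.unusedSectionVars false
set_option linter.style.haveILetI false

universe u

open IsLocalRing
open scoped TensorProduct

namespace Groth.Agent.Sol23

/-- Disjointness from an algebraically closed field gives geometric reducedness. -/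
theorem geomReduced_of_disjoint {k κ Θ : Type u} [Field k] [Field κ] [Field Θ] [Algebra k κ]
    (φ : κ →+* Θ) (Kb : Subfield Θ) [IsAlgClosed Kb] (hk : ∀ c, φ (algebraMap k κ c) ∈ Kb)
    (h : ∀ (m : ℕ) (e : Fin m → Θ), (∀ j, e j ∈ Kb) →
      (∀ c : Fin m → k, ∑ j, φ (algebraMap k κ (c j)) * e j = 0 → ∀ j, c j = 0) →
      ∀ z : Fin m → κ, ∑ j, e j * φ (z j) = 0 → ∀ j, z j = 0) :
    Algebra.IsGeometricallyReduced k κ := by
  classical
  let i : k →+* Kb := (φ.comp (algebraMap k κ)).codRestrict Kb hk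
  letI : Algebra k Kb := i.toAlgebra
  letI : Algebra k Θ := (φ.comp (algebraMap k κ)).toAlgebra
  let f₁ : Kb →ₐ[k] Θ := { Kb.subtype with commutes' := fun _ => rfl }
  let f₂ : κ →ₐ[k] Θ := { φ with commutes' := fun _ => rfl }
  let μ : Kb ⊗[k] κ →ₐ[k] Θ := Algebra.TensorProduct.lift f₁ f₂ fun _ _ => Commute.all _ _
  have hμ : Function.Injective μ := by
    rw [injective_iff_map_eq_zero]
    intro t ht
    let bk := Module.Free.chooseBasis k Kb
    obtain ⟨z, rfl⟩ : ∃ z : _ →₀ κ, (z.sum fun i n => bk i ⊗ₜ[k] n) = t :=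
      ⟨TensorProduct.equivFinsuppOfBasisLeft bk t, by
        rw [← TensorProduct.equivFinsuppOfBasisLeft_symm_apply, LinearEquiv.symm_apply_apply]⟩
    let en := z.support.equivFin.symm
    rw [Finsupp.sum, map_sum] at ht
    have ht' : ∑ j, ((bk (en j) : Kb) : Θ) * φ (z (en j)) = 0 := by
      rw [Equiv.sum_comp en fun i => ((bk i : Kb) : Θ) * φ (z i),
        Finset.sum_coe_sort z.support fun i => ((bk i : Kb) : Θ) * φ (z i), ← ht]
      exact Finset.sum_congr rfl fun i _ => by
        rw [show μ (bk i ⊗ₜ[k] z i) = f₁ (bk i) * f₂ (z i) from Algebra.TensorProduct.lift_tmul _ _ _ _ _]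
        rfl
    have hz := h _ (fun j => ((bk (en j) : Kb) : Θ)) (fun j => (bk (en j)).2) (fun c hc => ?_)
      (fun j => z (en j)) ht'
    · rw [show z = 0 from ?_]
      · simp
      ext i
      by_contra hi
      exact hi (by simpa using hz (en.symm ⟨i, Finsupp.mem_support_iff.2 hi⟩))
    · refine Fintype.linearIndependent_iff.1
        (bk.linearIndependent.comp (fun j => (en j : _)) (Subtype.val_injective.comp en.injective)) c ?_
      apply Subtype.ext
      rw [ZeroMemClass.coe_zero, AddSubmonoidClass.coe_finsetSum, ← hc]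
      exact Finset.sum_congr rfl fun j _ => by rw [Algebra.smul_def]; rfl
  rw [Algebra.isGeometricallyReduced_field_iff]
  let l : AlgebraicClosure k →ₐ[k] Kb := IsAlgClosed.lift
  haveI : IsReduced (Kb ⊗[k] κ) := isReduced_of_injective μ hμ
  exact isReduced_of_injective (Algebra.TensorProduct.map l (AlgHom.id k κ))
    (Module.Flat.rTensor_preserves_injective_linearMap _ l.toRingHom.injective)

section

variable {Ω : Type u} [Field Ω]

theorem exists_finset_closure (S U : Set Ω) {f : Ω} (hf : f ∈ Subfield.closure (S ∪ U)) :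
    ∃ s : Finset Ω, ↑s ⊆ S ∧ f ∈ Subfield.closure (↑s ∪ U) := by
  classical
  induction hf using Subfield.closure_induction with
  | mem a ha =>
    rcases ha with ha | ha
    · exact ⟨{a}, by simpa using ha, Subfield.subset_closure (Or.inl (by simp))⟩
    · exact ⟨∅, by simp, Subfield.subset_closure (Or.inr ha)⟩
  | one => exact ⟨∅, by simp, Subfield.one_mem _⟩
  | add a b _ _ ha hb =>
    obtain ⟨s, hs, hsa⟩ := ha
    obtain ⟨t, ht, htb⟩ := hb
    exact ⟨s ∪ t, by simp [hs, ht], add_mem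
      (Subfield.closure_mono (Set.union_subset_union_left U (by simp)) hsa)
      (Subfield.closure_mono (Set.union_subset_union_left U (by simp)) htb)⟩
  | neg a _ ha =>
    obtain ⟨s, hs, hsa⟩ := ha
    exact ⟨s, hs, neg_mem hsa⟩
  | inv a _ ha =>
    obtain ⟨s, hs, hsa⟩ := ha
    exact ⟨s, hs, inv_mem hsa⟩
  | mul a b _ _ ha hb =>
    obtain ⟨s, hs, hsa⟩ := ha
    obtain ⟨t, ht, htb⟩ := hb
    exact ⟨s ∪ t, by simp [hs, ht], mul_mem
      (Subfield.closure_mono (Set.union_subset_union_left U (by simp)) hsa)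
      (Subfield.closure_mono (Set.union_subset_union_left U (by simp)) htb)⟩

theorem isSeparable_of_le {F F' : Subfield Ω} (h : F ≤ F') {a : Ω} (ha : IsSeparable F a) :
    IsSeparable F' a := by
  letI : Algebra F F' := (Subfield.inclusion h).toAlgebra
  haveI : IsScalarTower F F' Ω := .of_algebraMap_eq fun _ => rfl
  exact ha.tower_top F'

variable (W : ValuationSubring Ω)

theorem val_comap_lt_one {F : Type u} [Field F] (f : F →+* Ω) (a : F) :
    (W.comap f).valuation a < 1 ↔ W.valuation (f a) < 1 := by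
  rcases eq_or_ne a 0 with rfl | ha
  · simp
  have hv : W.valuation (f a) ≠ 0 := W.valuation.ne_zero_iff.2 ((map_ne_zero f).2 ha)
  have hv' : (W.comap f).valuation a ≠ 0 := (W.comap f).valuation.ne_zero_iff.2 ha
  have h1 : W.valuation (f a) < 1 ↔ ¬ f a⁻¹ ∈ W := by
    rw [← W.valuation_le_one_iff, map_inv₀, map_inv₀, inv_le_one₀ (zero_lt_iff.2 hv), not_le]
  have h2 : (W.comap f).valuation a < 1 ↔ ¬ a⁻¹ ∈ W.comap f := by
    rw [← (W.comap f).valuation_le_one_iff, map_inv₀, inv_le_one₀ (zero_lt_iff.2 hv'), not_le]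
  rw [h1, h2, ValuationSubring.mem_comap]

/-- A subfield all of whose values are powers of the value of `ρ` gives a discrete valuation ring. -/
theorem dvr_of_values (E : Subfield Ω) {ρ : Ω} (hρE : ρ ∈ E) (hρ0 : ρ ≠ 0) (hρ : W.valuation ρ < 1)
    (h : ∀ e ∈ E, e ≠ 0 → ∃ n : ℤ, W.valuation e = W.valuation ρ ^ n) :
    IsDiscreteValuationRing (W.comap (algebraMap E Ω)) := by
  set V := W.comap (algebraMap E Ω)
  have hmem : ∀ e : E, e ∈ V ↔ W.valuation (e : Ω) ≤ 1 := fun e => (W.valuation_le_one_iff _).symm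
  have hρv : W.valuation ρ ≠ 0 := W.valuation.ne_zero_iff.2 hρ0
  have hlt : ∀ n : ℤ, W.valuation ρ ^ n ≤ 1 → 0 ≤ n := fun n hn => by
    by_contra hneg
    exact absurd hn (not_le.2 ((one_lt_zpow_iff_right_of_lt_one₀ (zero_lt_iff.2 hρv) hρ).2 (not_le.1 hneg)))
  have hunit : ∀ y : V, IsUnit y ↔ W.valuation ((y : E) : Ω) = 1 := by
    intro y
    constructor
    · rintro ⟨w, rfl⟩
      have h1 : W.valuation (((w : V) : E) : Ω) * W.valuation (((↑w⁻¹ : V) : E) : Ω) = 1 := by
        rw [← map_mul, ← map_one W.valuation]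
        exact congrArg W.valuation (congrArg (fun v : V => ((v : E) : Ω)) w.mul_inv)
      refine le_antisymm ((hmem _).1 (w : V).2) ?_
      calc (1 : W.ValueGroup) = _ := h1.symm
        _ ≤ W.valuation (((w : V) : E) : Ω) * 1 := by gcongr; exact (hmem _).1 (↑w⁻¹ : V).2
        _ = _ := mul_one _
    · intro h1
      have h0 : (y : E) ≠ 0 := fun h0 => by rw [h0, ZeroMemClass.coe_zero, map_zero] at h1; exact zero_ne_one h1
      refine IsUnit.of_mul_eq_one ⟨(y : E)⁻¹, (hmem _).2 ?_⟩ (Subtype.ext (mul_inv_cancel₀ h0))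
      rw [Subfield.coe_inv, map_inv₀, h1, inv_one]
  let r : V := ⟨⟨ρ, hρE⟩, (hmem _).2 hρ.le⟩
  have hr : Irreducible r := by
    refine ⟨fun hu => hρ.ne ((hunit r).1 hu), fun a b hab => ?_⟩
    by_contra! hc
    have hab' : ρ = ((a : E) : Ω) * ((b : E) : Ω) := congrArg (fun v : V => ((v : E) : Ω)) hab
    have key : ∀ c : V, ((c : E) : Ω) ≠ 0 → ¬ IsUnit c → W.valuation ((c : E) : Ω) ≤ W.valuation ρ := by
      intro c hc0 hcu
      obtain ⟨n, hn⟩ := h _ (c : E).2 hc0
      have h0 := hlt n (hn ▸ (hmem _).1 c.2)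
      obtain ⟨m, rfl⟩ := Int.eq_ofNat_of_zero_le h0
      rcases m with _ | m
      · exact absurd ((hunit c).2 (hn.trans (zpow_zero _))) hcu
      · rw [hn, zpow_natCast, pow_succ]
        exact mul_le_of_le_one_left' (pow_le_one₀ zero_le hρ.le)
    have ha0 : ((a : E) : Ω) ≠ 0 := fun h0 => hρ0 (by rw [hab', h0, zero_mul])
    have hb0 : ((b : E) : Ω) ≠ 0 := fun h0 => hρ0 (by rw [hab', h0, mul_zero])
    have h2 := mul_le_mul' (key a ha0 hc.1) (key b hb0 hc.2)
    rw [← map_mul, ← hab'] at h2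
    exact absurd h2 (not_le.2 (mul_lt_of_lt_one_left (zero_lt_iff.2 hρv) hρ))
  refine IsDiscreteValuationRing.ofHasUnitMulPowIrreducibleFactorization ⟨r, hr, fun {y} hy0 => ?_⟩
  have hy' : ((y : E) : Ω) ≠ 0 := fun h0 => hy0 (Subtype.ext (Subtype.ext h0))
  obtain ⟨n, hn⟩ := h _ (y : E).2 hy'
  obtain ⟨m, rfl⟩ := Int.eq_ofNat_of_zero_le (hlt n (hn ▸ (hmem _).1 y.2))
  let q : E := (y : E) / ⟨ρ, hρE⟩ ^ m
  have hq : W.valuation (q : Ω) = 1 := by
    simp only [q, Subfield.coe_div, SubmonoidClass.coe_pow]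
    rw [map_div₀, map_pow, hn, zpow_natCast, div_self (pow_ne_zero _ hρv)]
  refine ⟨m, ((hunit ⟨q, (hmem _).2 hq.le⟩).2 hq).unit, Subtype.ext (Subtype.ext ?_)⟩
  show ρ ^ m * (q : Ω) = ((y : E) : Ω)
  simp only [q, Subfield.coe_div, SubmonoidClass.coe_pow]
  rw [mul_div_cancel₀ _ (pow_ne_zero _ hρ0)]

theorem algebraicIndependent_res_mono {F F' : Subfield Ω} (h : F ≤ F') {ι : Type u}
    {r : ι → ResidueField W} (hr : AlgebraicIndependent (res W F') r) :
    AlgebraicIndependent (res W F) r := by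
  letI : Algebra (res W F) (res W F') := (Subfield.inclusion (res_mono W h)).toAlgebra
  haveI : IsScalarTower (res W F) (res W F') (ResidueField W) := .of_algebraMap_eq fun _ => rfl
  exact hr.restrictScalars (Subfield.inclusion (res_mono W h)).injective

/-- `x(F)` and `F'` are linearly disjoint over `F` in the residue field. -/
theorem disjoint_bas {σ : Type u} {x : σ → Ω} (hx : ∀ i, x i ∈ W) {F F' : Subfield Ω} (hle : F ≤ F')
    (hind : AlgebraicIndependent (res W F') fun i => residue W ⟨x i, hx i⟩)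
    {m : ℕ} {e : Fin m → ResidueField W} (he : ∀ j, e j ∈ res W F')
    (hli : ∀ c : Fin m → ResidueField W, (∀ j, c j ∈ res W F) → ∑ j, c j * e j = 0 → ∀ j, c j = 0)
    {w : Fin m → ResidueField W} (hw : ∀ j, w j ∈ res W (bas x F)) (hsum : ∑ j, e j * w j = 0) :
    ∀ j, w j = 0 := by
  classical
  set xb : σ → ResidueField W := fun i => residue W ⟨x i, hx i⟩
  have hindF := algebraicIndependent_res_mono W hle hind
  choose R₁ R₂ hR₂ hwe using fun j => res_bas W hx hindF (hw j)
  let P : Fin m → MvPolynomial σ (res W F) := fun j => R₁ j * ∏ k ∈ Finset.univ.erase j, R₂ k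
  have hP : ∀ j, MvPolynomial.aeval xb (P j) = w j * ∏ k, MvPolynomial.aeval xb (R₂ k) := by
    intro j
    simp only [P, map_mul, map_prod]
    rw [← Finset.mul_prod_erase Finset.univ _ (Finset.mem_univ j), hwe j, ← mul_assoc,
      div_mul_cancel₀ _ (hR₂ j)]
  let incl := Subfield.inclusion (res_mono W hle)
  let Q : MvPolynomial σ (res W F') :=
    ∑ j, MvPolynomial.C ⟨e j, he j⟩ * MvPolynomial.map incl (P j)
  have hQ : MvPolynomial.aeval xb Q = 0 := by
    simp only [Q, map_sum, map_mul, MvPolynomial.aeval_C, MvPolynomial.aeval_def,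
      MvPolynomial.eval₂_map, MvPolynomial.eval₂_C]
    have hh : ∀ j, MvPolynomial.eval₂ ((algebraMap (res W F') (ResidueField W)).comp incl) xb (P j) =
        w j * ∏ k, MvPolynomial.aeval xb (R₂ k) := fun j => (hP j ▸ rfl)
    simp only [hh, ← mul_assoc, ← Finset.sum_mul]
    rw [show ∑ j, algebraMap (res W F') (ResidueField W) ⟨e j, he j⟩ * w j = 0 from hsum, zero_mul]
  have hQ0 : Q = 0 := hind.eq_zero_of_aeval_eq_zero Q hQ
  intro j
  have hPj : P j = 0 := by
    ext d
    have := congrArg (MvPolynomial.coeff d) hQ0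
    simp only [Q, MvPolynomial.coeff_sum, MvPolynomial.coeff_C_mul, MvPolynomial.coeff_map,
      MvPolynomial.coeff_zero] at this
    have h2 := hli (fun j => ((P j).coeff d : res W F)) (fun j => ((P j).coeff d).2) (by
      rw [← show ((0 : res W F') : ResidueField W) = 0 from rfl, ← this, AddSubmonoidClass.coe_finsetSum]
      exact Finset.sum_congr rfl fun j _ => mul_comm _ _) j
    rw [MvPolynomial.coeff_zero]
    exact h2
  have := hP j
  rw [hPj, map_zero] at this
  exact (mul_eq_zero.1 this.symm).resolve_right (Finset.prod_ne_zero_iff.2 fun k _ => hR₂ k)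

end

end Groth.Agent.Sol23
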