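import Mathlib.RingTheory.DedekindDomain.IntegralClosure
import Mathlib.RingTheory.Localization.Module
import Mathlib.RingTheory.Valuation.LocalSubring
import Groth.Agent.Ram24.LocalFinite
import Groth.Agent.Sol23.Alg

/-!
# Integral bases over valuation rings
-/

set_option autoImplicit false
set_option linter.unusedSectionVars false
set_option linter.style.haveILetI false

universe u

open IsLocalRing Polynomial

namespace Groth.Agent.Sol23

/-- `z` is a root of a monic polynomial with coefficients in `G`. -/
def IsInt {F E : Type u} [Field F] [Field E] [Algebra F E] (G : ValuationSubring F) (z : E) : Prop :=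
  ∃ P : F[X], P.Monic ∧ (∀ i, P.coeff i ∈ G) ∧ aeval z P = 0

variable {Ω : Type u} [Field Ω] (W : ValuationSubring Ω)
variable {F E : Type u} [Field F] [Field E] [Algebra F E] (G : ValuationSubring F)

theorem isInt_iff [Algebra G E] [IsScalarTower G F E] {z : E} : IsInt G z ↔ IsIntegral G z := by
  constructor
  · rintro ⟨P, hP, hc, hz⟩
    obtain ⟨Q, hQ, -, hQm⟩ := lifts_and_degree_eq_and_monic
      ((lifts_iff_coeff_lifts (f := algebraMap G F) P).2 fun i => ⟨⟨_, hc i⟩, rfl⟩) hP
    refine ⟨Q, hQm, ?_⟩
    rwa [← aeval_def, ← aeval_map_algebraMap F, hQ]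
  · rintro ⟨Q, hQ, hz⟩
    refine ⟨Q.map (algebraMap G F), hQ.map _, fun i => ?_, ?_⟩
    · rw [coeff_map]; exact (Q.coeff i).2
    · rwa [aeval_map_algebraMap]

theorem mem_of_isInt (f : E →+* Ω) (hG : ∀ a ∈ G, f (algebraMap F E a) ∈ W) {z : E} (hz : IsInt G z) :
    f z ∈ W := by
  obtain ⟨P, hP, hc, hz⟩ := hz
  obtain ⟨Q, hQ, -, hQm⟩ := lifts_and_degree_eq_and_monic
    ((lifts_iff_coeff_lifts (f := algebraMap W Ω) (P.map (f.comp (algebraMap F E)))).2
      fun i => ⟨⟨_, hG _ (hc i)⟩, (coeff_map (f.comp (algebraMap F E)) i).symm⟩) (hP.map _)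
  have h1 : IsIntegral W (f z) := by
    refine ⟨Q, hQm, ?_⟩
    rw [← eval_map, hQ, eval_map, ← hom_eval₂, ← aeval_def, hz, map_zero]
  obtain ⟨w, hw⟩ := IsIntegrallyClosed.algebraMap_eq_of_integral h1
  exact hw ▸ w.2

/-- A basis of integral elements in which integral elements have integral coordinates. -/
theorem exists_frame [FiniteDimensional F E] [Algebra.IsSeparable F E] [IsDiscreteValuationRing G] :
    ∃ (ι : Type u) (_ : Fintype ι) (bE : Module.Basis ι F E), (∀ i, IsInt G (bE i)) ∧
      ∀ z, IsInt G z → ∀ i, bE.repr z i ∈ G := by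
  classical
  letI : Algebra G E := ((algebraMap F E).comp (algebraMap G F)).toAlgebra
  haveI : IsScalarTower G F E := .of_algebraMap_eq fun _ => rfl
  haveI : Module.Finite G (integralClosure G E) := IsIntegralClosure.finite G F E _
  haveI : IsLocalization (Algebra.algebraMapSubmonoid (integralClosure G E) (nonZeroDivisors G)) E :=
    IsIntegralClosure.isLocalization G F E _
  haveI : Module.IsTorsionFree G (integralClosure G E) := Module.isTorsionFree_iff_algebraMap_injective.2
    fun a b h => Subtype.ext ((algebraMap F E).injective (congrArg (fun t : integralClosure G E => (t : E)) h))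
  haveI : Module.Free G (integralClosure G E) := Module.free_of_finite_type_torsion_free'
  let b := Module.Free.chooseBasis G (integralClosure G E)
  refine ⟨_, inferInstance, b.localizationLocalization F (nonZeroDivisors G) E, fun i => ?_, fun z hz i => ?_⟩
  · rw [Module.Basis.localizationLocalization_apply]
    exact (isInt_iff G).2 (b i).2
  · have := Module.Basis.localizationLocalization_repr_algebraMap F (nonZeroDivisors G) E b
      ⟨z, (isInt_iff G).1 hz⟩ i
    change (b.localizationLocalization F (nonZeroDivisors G) E).repr z i = _ at this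
    rw [this]
    exact (b.repr _ i).2

/-- Elements of `W` are fractions of integral elements. -/
theorem exists_frac_int [FiniteDimensional F E] [Algebra.IsSeparable F E] (f : E →+* Ω)
    (hGW : W.comap (f.comp (algebraMap F E)) = G) [IsDiscreteValuationRing G] {z : E} (hz : f z ∈ W) :
    ∃ c d : E, IsInt G c ∧ IsInt G d ∧ W.valuation (f d) = 1 ∧ z * d = c := by
  letI : Algebra G E := ((algebraMap F E).comp (algebraMap G F)).toAlgebra
  haveI : IsScalarTower G F E := .of_algebraMap_eq fun _ => rfl
  haveI : Module.Finite G (integralClosure G E) := IsIntegralClosure.finite G F E _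
  have hG : ∀ a ∈ G, f (algebraMap F E a) ∈ W := fun a ha => by rwa [← hGW] at ha
  subst hGW
  have hdom : EtRam.Dominates (W.comap (f.comp (algebraMap F E)))
      ((algebraMap F E).comp (algebraMap (W.comap (f.comp (algebraMap F E))) F)) (W.comap f) := by
    refine ⟨fun a => a.2, fun a ha => (val_comap_lt_one W f _).2 ?_⟩
    exact (val_comap_lt_one W (f.comp (algebraMap F E)) (a : F)).1 ((ValuationSubring.valuation_lt_one_iff _ a).1 ha)
  obtain ⟨c, d, hc, hd, hdv, hcd⟩ := Ram24.exists_integral_frac (L := F) (W.comap f) hdom z hz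
  refine ⟨c, d, (isInt_iff _).2 hc, (isInt_iff _).2 hd, ?_, hcd⟩
  refine le_antisymm ((W.valuation_le_one_iff _).2 (mem_of_isInt W _ f hG ((isInt_iff _).2 hd))) ?_
  exact not_lt.1 fun hlt => hdv.not_lt ((val_comap_lt_one W f d).2 hlt)

/-- Elements with coordinates in a subfield form a subalgebra. -/
theorem coord_mem {ι : Type u} [Fintype ι] (bE : Module.Basis ι F E) (F₀ : Subfield F) {R : Set E}
    (h1 : ∀ k, bE.repr 1 k ∈ F₀) (hmul : ∀ i j k, bE.repr (bE i * bE j) k ∈ F₀)
    (hR : ∀ r ∈ R, ∀ k, bE.repr r k ∈ F₀) {z : E} (hz : z ∈ Algebra.adjoin F₀ R) :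
    ∀ k, bE.repr z k ∈ F₀ := by
  induction hz using Algebra.adjoin_induction with
  | mem r hr => exact hR r hr
  | algebraMap c =>
    intro k
    rw [show algebraMap F₀ E c = (c : F) • (1 : E) by rw [Algebra.smul_def, mul_one]; rfl,
      map_smul, Finsupp.smul_apply, smul_eq_mul]
    exact mul_mem c.2 (h1 k)
  | add y w _ _ hy hw => intro k; rw [map_add, Finsupp.add_apply]; exact add_mem (hy k) (hw k)
  | mul y w _ _ hy hw =>
    intro k
    have e : y * w = ∑ i, ∑ j, (bE.repr y i * bE.repr w j) • (bE i * bE j) := by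
      conv_lhs => rw [← bE.sum_repr y, ← bE.sum_repr w, Finset.sum_mul_sum]
      exact Finset.sum_congr rfl fun i _ => Finset.sum_congr rfl fun j _ => smul_mul_smul_comm _ _ _ _
    rw [e]
    simp only [map_sum, map_smul, Finsupp.finsetSum_apply, Finsupp.smul_apply, smul_eq_mul]
    exact sum_mem fun i _ => sum_mem fun j _ => mul_mem (mul_mem (hy i) (hw j)) (hmul i j k)

end Groth.Agent.Sol23
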