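import Mathlib.FieldTheory.IntermediateField.Adjoin.Algebra
import Mathlib.FieldTheory.SeparableClosure
import Mathlib.RingTheory.Valuation.LocalSubring
import Groth.Agent.Sol23.Frame
import Groth.Agent.Sol23.Alg

/-!
# Linear disjointness of residue fields at a finite stage

For a subfield `Kp` with values powers of one `ρ` and residues of `x` independent over its residue
field, and a finite separable extension `Kp(x)(R)`, the data of an integral basis are defined over a
finite set `s`. For a subfield `T` containing `s` the residue fields of `Kp` and `T(x)(R)` are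
linearly disjoint over that of `T`.
-/

set_option autoImplicit false
set_option linter.unusedSectionVars false
set_option linter.style.haveILetI false

universe u

open IsLocalRing

namespace Groth.Agent.Sol23

variable {Ω : Type u} [Field Ω] (W : ValuationSubring Ω) {σ : Type u}

/-- The residues of `Kp` and `ET` are linearly disjoint over those of `T`, in terms of elements. -/
def Disj (Kp T ET : Subfield Ω) : Prop :=
  ∀ (m : ℕ) (e : Fin m → Ω), (∀ j, e j ∈ W ∧ e j ∈ Kp) →
    (∀ c : Fin m → Ω, (∀ j, c j ∈ W ∧ c j ∈ T) → W.valuation (∑ j, c j * e j) < 1 →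
      ∀ j, W.valuation (c j) < 1) →
    ∀ z : Fin m → Ω, (∀ j, z j ∈ W ∧ z j ∈ ET) → W.valuation (∑ j, e j * z j) < 1 →
      ∀ j, W.valuation (z j) < 1

/-- `T(x)(R)`. -/
def top (x : σ → Ω) (T : Subfield Ω) (R : Set Ω) : Subfield Ω :=
  (IntermediateField.adjoin (bas x T) R).toSubfield

theorem bas_le_top (x : σ → Ω) (T : Subfield Ω) (R : Set Ω) : bas x T ≤ top x T R :=
  fun a ha => (IntermediateField.adjoin (bas x T) R).algebraMap_mem ⟨a, ha⟩

theorem subset_top (x : σ → Ω) (T : Subfield Ω) (R : Set Ω) : R ⊆ top x T R :=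
  IntermediateField.subset_adjoin _ _

theorem top_eq_closure (x : σ → Ω) (T : Subfield Ω) (R : Set Ω) :
    top x T R = Subfield.closure ((bas x T : Set Ω) ∪ R) := by
  rw [top, IntermediateField.adjoin_toSubfield]
  congr 1
  congr 1
  ext a
  exact ⟨fun ⟨b, hb⟩ => hb ▸ b.2, fun ha => ⟨⟨a, ha⟩, rfl⟩⟩

theorem top_mono (x : σ → Ω) {T T' : Subfield Ω} (h : T ≤ T') (R : Set Ω) : top x T R ≤ top x T' R := by
  rw [top_eq_closure, top_eq_closure]
  exact Subfield.closure_mono (Set.union_subset_union_left _ (bas_mono x h))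

/-- The residue fields are disjoint once residues of elements of `ET` are combinations of a fixed family. -/
theorem disj_of_span {σ : Type u} {x : σ → Ω} (hx : ∀ i, x i ∈ W) {Kp T : Subfield Ω} (hT : T ≤ Kp)
    (hind : AlgebraicIndependent (res W Kp) fun i => residue W ⟨x i, hx i⟩)
    {κ : Type u} [Fintype κ] {n : ℕ} (β : Fin n → ResidueField W)
    (hβ : ∀ g : Fin n → ResidueField W, (∀ l, g l ∈ res W (bas x Kp)) → ∑ l, g l * β l = 0 → ∀ l, g l = 0)
    (bb : κ → ResidueField W) (a : κ → Fin n → ResidueField W)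
    (ha : ∀ i l, a i l ∈ res W (bas x T)) (hbb : ∀ i, bb i = ∑ l, a i l * β l) {ET : Subfield Ω}
    (I : Set Ω) (hI : ∀ t ∈ I, ∃ (ht : t ∈ W) (q : κ → ResidueField W),
      (∀ i, q i ∈ res W (bas x T)) ∧ residue W ⟨t, ht⟩ = ∑ i, q i * bb i)
    (hIfrac : ∀ m (z : Fin m → Ω), (∀ j, z j ∈ W ∧ z j ∈ ET) →
      ∃ D : Ω, W.valuation D = 1 ∧ ∀ j, z j * D ∈ I) :
    Disj W Kp T ET := by
  classical
  intro m e he hli z hz hsum
  obtain ⟨D, hDv, hD⟩ := hIfrac m z hz
  choose hvW q hq hvq using fun j => hI _ (hD j)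
  let w : Fin n → Fin m → ResidueField W := fun l j => ∑ i, q j i * a i l
  have hv : ∀ j, residue W ⟨z j * D, hvW j⟩ = ∑ l, w l j * β l := by
    intro j
    simp only [hvq, hbb, w, Finset.mul_sum, Finset.sum_mul, mul_assoc]
    exact Finset.sum_comm
  have h0 : ∑ j, residue W ⟨e j, (he j).1⟩ * residue W ⟨z j * D, hvW j⟩ = 0 := by
    simp only [← map_mul, ← map_sum]
    rw [residue_eq_zero_iff, W.valuation_lt_one_iff]
    simp only [AddSubmonoidClass.coe_finsetSum, MulMemClass.coe_mul, ← mul_assoc,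
      ← Finset.sum_mul, map_mul, hDv, mul_one]
    exact hsum
  have hwm : ∀ l j, w l j ∈ res W (bas x T) := fun l j => sum_mem fun i _ => mul_mem (hq j i) (ha i l)
  have hw0 : ∀ l, ∑ j, residue W ⟨e j, (he j).1⟩ * w l j = 0 := by
    refine hβ _ (fun l => sum_mem fun j _ => mul_mem
      (residue_mem_res W _ (le_bas x Kp (he j).2)) (res_mono W (bas_mono x hT) (hwm l j))) ?_
    rw [← h0]
    simp only [hv, Finset.mul_sum, Finset.sum_mul, mul_assoc]
    exact Finset.sum_comm
  have hwz : ∀ l j, w l j = 0 := fun l => disjoint_bas W hx hT hind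
    (fun j => residue_mem_res W (he j).1 (he j).2) (fun c hc hc0 => by
      choose cc hccW hccT hcc using fun j => (mem_res W).1 (hc j)
      intro j
      rw [← hcc j, res_eq_zero]
      refine hli cc (fun j => ⟨hccW j, hccT j⟩) ?_ j
      have h1 : residue W (∑ j, ⟨cc j, hccW j⟩ * ⟨e j, (he j).1⟩) = 0 := by
        simp only [map_sum, map_mul, hcc, hc0]
      rw [residue_eq_zero_iff, W.valuation_lt_one_iff] at h1
      simpa using h1) (hwm l) (hw0 l)
  intro j
  have h1 : residue W ⟨z j * D, hvW j⟩ = 0 := by simp [hv, hwz]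
  rw [res_eq_zero, map_mul, hDv, mul_one] at h1
  exact h1

/-- The uniform stage. -/
theorem exists_stage [Finite σ] {x : σ → Ω} (hx : ∀ i, x i ∈ W) (R : Finset Ω) (K₀ Kp : Subfield Ω)
    (hR : ∀ r ∈ R, IsSeparable (bas x K₀) r) (hK : K₀ ≤ Kp)
    {ρ : Ω} (hρK : ρ ∈ Kp) (hρ0 : ρ ≠ 0) (hρ : W.valuation ρ < 1)
    (hval : ∀ c ∈ Kp, c ≠ 0 → ∃ n : ℤ, W.valuation c = W.valuation ρ ^ n)
    (hind : AlgebraicIndependent (res W Kp) fun i => residue W ⟨x i, hx i⟩) :
    ∃ s : Finset Ω, ↑s ⊆ (Kp : Set Ω) ∧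
      ∀ T : Subfield Ω, K₀ ≤ T → T ≤ Kp → ↑s ⊆ (T : Set Ω) → Disj W Kp T (top x T R) := by
  classical
  have hvbas : ∀ F : Subfield Ω, F ≤ Kp → ∀ f ∈ bas x F, f ≠ 0 →
      ∃ n : ℤ, W.valuation f = W.valuation ρ ^ n := by
    intro F hF f hf hf0
    obtain ⟨c, hc, hcv⟩ := exists_val_eq W hx (algebraicIndependent_res_mono W hF hind) hf
    obtain ⟨n, hn⟩ := hval c (hF hc) fun h => by
      rw [h, map_zero] at hcv; exact hf0 (W.valuation.zero_iff.1 hcv)
    exact ⟨n, hcv.trans hn⟩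
  let Fp := bas x Kp
  let E : IntermediateField Fp Ω := IntermediateField.adjoin Fp (R : Set Ω)
  have hRp : ∀ r ∈ R, IsSeparable Fp r := fun r hr => isSeparable_of_le (bas_mono x hK) (hR r hr)
  haveI : FiniteDimensional Fp E :=
    IntermediateField.finiteDimensional_adjoin fun r hr => (hRp r hr).isIntegral
  haveI : Algebra.IsSeparable Fp E := (IntermediateField.isSeparable_adjoin_iff_isSeparable _ _).2 hRp
  haveI : IsDiscreteValuationRing (W.comap (algebraMap Fp Ω)) :=
    dvr_of_values W Fp (le_bas x Kp hρK) hρ0 hρ (hvbas Kp le_rfl)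
  obtain ⟨κ, _, bE, hbi, hcoef⟩ := exists_frame (F := Fp) (E := E) (W.comap (algebraMap Fp Ω))
  have hGW : ∀ a ∈ W.comap (algebraMap Fp Ω), (E.val.toRingHom) (algebraMap Fp E a) ∈ W := fun a ha => ha
  have hbW : ∀ i, ((bE i : E) : Ω) ∈ W := fun i => mem_of_isInt W _ E.val.toRingHom hGW (hbi i)
  let bb : κ → ResidueField W := fun i => residue W ⟨_, hbW i⟩
  let V : Submodule (res W Fp) (ResidueField W) := Submodule.span (res W Fp) (Set.range bb)
  haveI : Module.Finite (res W Fp) V := Module.Finite.span_of_finite _ (Set.finite_range bb)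
  let β := Module.finBasis (res W Fp) V
  let bV : κ → V := fun i => ⟨bb i, Submodule.subset_span ⟨i, rfl⟩⟩
  choose a haW haF hab using fun i l => (mem_res W).1 (β.repr (bV i) l).2
  have hsF : ∀ f : Ω, f ∈ Fp → ∃ s : Finset Ω, ↑s ⊆ (Kp : Set Ω) ∧
      ∀ T : Subfield Ω, ↑s ⊆ (T : Set Ω) → f ∈ bas x T := by
    intro f hf
    obtain ⟨s, hs, hsf⟩ := exists_finset_closure _ _ hf
    exact ⟨s, hs, fun T hT => Subfield.closure_mono (Set.union_subset_union_left _ hT) hsf⟩
  choose s₂ hs₂ hs₂' using fun (p : κ × κ) k => hsF _ (bE.repr (bE p.1 * bE p.2) k).2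
  choose s₃ hs₃ hs₃' using fun k => hsF _ (bE.repr (1 : E) k).2
  choose s₄ hs₄ hs₄' using fun (r : R) k =>
    hsF _ (bE.repr ⟨r, IntermediateField.subset_adjoin _ _ r.2⟩ k).2
  choose s₅ hs₅ hs₅' using fun i l => hsF _ (haF i l)
  refine ⟨{ρ} ∪ (Finset.univ.biUnion (fun p => Finset.univ.biUnion (s₂ p)) ∪
    Finset.univ.biUnion s₃ ∪ Finset.univ.biUnion (fun r => Finset.univ.biUnion (s₄ r)) ∪
    Finset.univ.biUnion (fun i => Finset.univ.biUnion (s₅ i))), ?_, fun T hK₀T hT hs => ?_⟩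
  · simp only [Finset.coe_union, Finset.coe_biUnion, Finset.coe_univ, Set.union_subset_iff,
      Finset.coe_singleton, Set.singleton_subset_iff, Set.iUnion_subset_iff]
    exact ⟨hρK, ⟨⟨fun p _ k _ => hs₂ p k, fun k _ => hs₃ k⟩,
      fun r _ k _ => hs₄ r k⟩, fun i _ l _ => hs₅ i l⟩
  simp only [Finset.coe_union, Finset.coe_biUnion, Finset.coe_univ, Set.union_subset_iff,
    Finset.coe_singleton, Set.singleton_subset_iff, Set.iUnion_subset_iff, Set.mem_univ,
    true_imp_iff] at hs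
  obtain ⟨hρT, ⟨⟨ht₂, ht₃⟩, ht₄⟩, ht₅⟩ := hs
  let FT := bas x T
  have hFTp : FT ≤ Fp := bas_mono x hT
  let ET : IntermediateField FT Ω := IntermediateField.adjoin FT (R : Set Ω)
  have hRT : ∀ r ∈ R, IsSeparable FT r := fun r hr => isSeparable_of_le (bas_mono x hK₀T) (hR r hr)
  haveI : FiniteDimensional FT ET :=
    IntermediateField.finiteDimensional_adjoin fun r hr => (hRT r hr).isIntegral
  haveI : Algebra.IsSeparable FT ET := (IntermediateField.isSeparable_adjoin_iff_isSeparable _ _).2 hRT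
  haveI : IsDiscreteValuationRing (W.comap (algebraMap FT Ω)) :=
    dvr_of_values W FT (le_bas x T hρT) hρ0 hρ (hvbas T hT)
  -- coordinates
  let F₀ : Subfield Fp := FT.comap Fp.subtype
  have hcoord : ∀ z : Ω, z ∈ ET → ∃ hzE : z ∈ E, ∀ k, ((bE.repr ⟨z, hzE⟩ k : Fp) : Ω) ∈ FT := by
    intro z hz
    rw [← IntermediateField.mem_toSubalgebra,
      IntermediateField.adjoin_toSubalgebra_of_isAlgebraic fun r hr => (hRT r hr).isIntegral.isAlgebraic] at hz
    suffices h : ∃ hzE : z ∈ E, (⟨z, hzE⟩ : E) ∈ Algebra.adjoin F₀ {e : E | (e : Ω) ∈ R} by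
      obtain ⟨hzE, hz'⟩ := h
      exact ⟨hzE, coord_mem bE F₀ (R := {e : E | (e : Ω) ∈ R}) (fun k => hs₃' k T (ht₃ k))
        (fun i j k => hs₂' (i, j) k T (ht₂ _ k))
        (fun r hr k => hs₄' ⟨(r : Ω), hr⟩ k T (ht₄ _ k)) hz'⟩
    induction hz using Algebra.adjoin_induction with
    | mem r hr => exact ⟨IntermediateField.subset_adjoin _ _ hr, Algebra.subset_adjoin hr⟩
    | algebraMap c =>
      exact ⟨E.algebraMap_mem ⟨(c : Ω), hFTp c.2⟩,
        Subalgebra.algebraMap_mem _ (⟨⟨(c : Ω), hFTp c.2⟩, c.2⟩ : F₀)⟩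
    | add y w _ _ hy hw =>
      obtain ⟨hyE, hy'⟩ := hy
      obtain ⟨hwE, hw'⟩ := hw
      exact ⟨add_mem hyE hwE, Subalgebra.add_mem _ hy' hw'⟩
    | mul y w _ _ hy hw =>
      obtain ⟨hyE, hy'⟩ := hy
      obtain ⟨hwE, hw'⟩ := hw
      exact ⟨mul_mem hyE hwE, Subalgebra.mul_mem _ hy' hw'⟩
  -- integral elements
  let I : Set Ω := {t | ∃ (h : t ∈ ET) (P : Polynomial Ω), P.Monic ∧
    (∀ i, P.coeff i ∈ FT ∧ P.coeff i ∈ W) ∧ P.eval t = 0}
  refine disj_of_span W hx hT hind (fun l => ((β l : V) : ResidueField W)) (fun g hg h0 => ?_) bb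
    (fun i l => residue W ⟨a i l, haW i l⟩) (fun i l => residue_mem_res W _ (hs₅' i l T (ht₅ i l)))
    (fun i => ?_) I (fun t ht => ?_) (fun m z hz => ?_)
  · have h1 : ∑ l, (⟨g l, hg l⟩ : res W Fp) • β l = 0 := by
      apply Subtype.ext
      simp only [AddSubmonoidClass.coe_finsetSum, SetLike.val_smul, Subfield.smul_def, smul_eq_mul,
        ZeroMemClass.coe_zero]
      exact h0
    exact fun l => congrArg Subtype.val (Fintype.linearIndependent_iff.1 β.linearIndependent _ h1 l)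
  · have h1 := congrArg (fun t : V => (t : ResidueField W)) (β.sum_repr (bV i))
    simp only [AddSubmonoidClass.coe_finsetSum, SetLike.val_smul, Subfield.smul_def, smul_eq_mul] at h1
    refine h1.symm.trans (Finset.sum_congr rfl fun l _ => ?_)
    rw [hab]
  · obtain ⟨htE, P, hP, hPc, hPt⟩ := ht
    obtain ⟨hzE, hzc⟩ := hcoord t htE
    have hti : IsInt (W.comap (algebraMap Fp Ω)) (⟨t, hzE⟩ : E) := by
      obtain ⟨Q, hQ, -, hQm⟩ := Polynomial.lifts_and_degree_eq_and_monic
        ((Polynomial.lifts_iff_coeff_lifts (f := algebraMap Fp Ω) P).2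
          fun i => ⟨⟨_, hFTp (hPc i).1⟩, rfl⟩) hP
      refine ⟨Q, hQm, fun i => ?_, ?_⟩
      · show algebraMap Fp Ω (Q.coeff i) ∈ W
        rw [← Polynomial.coeff_map, hQ]
        exact (hPc i).2
      · apply Subtype.val_injective
        show ((Polynomial.aeval (⟨t, hzE⟩ : E) Q : E) : Ω) = 0
        rw [← IntermediateField.aeval_coe, Polynomial.aeval_def, ← Polynomial.eval_map, hQ]
        exact hPt
    refine ⟨mem_of_isInt W _ E.val.toRingHom hGW hti, fun i => residue W ⟨_, hcoef _ hti i⟩,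
      fun i => residue_mem_res W _ (hzc i), ?_⟩
    rw [show (⟨t, mem_of_isInt W _ E.val.toRingHom hGW hti⟩ : W) =
        ∑ i, ⟨_, hcoef _ hti i⟩ * ⟨_, hbW i⟩ from Subtype.ext ?_, map_sum]
    · simp only [map_mul]; rfl
    · rw [AddSubmonoidClass.coe_finsetSum]
      have h1 := congrArg (fun e : E => (e : Ω)) (bE.sum_repr ⟨t, hzE⟩)
      simp only [IntermediateField.coe_sum] at h1
      exact h1.symm
  · have hIint : ∀ e : ET, IsInt (W.comap (algebraMap FT Ω)) e → (e : Ω) ∈ I := by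
      rintro e ⟨P, hP, hPc, hPe⟩
      refine ⟨e.2, P.map (algebraMap FT Ω), hP.map _, fun i => ?_, ?_⟩
      · rw [Polynomial.coeff_map]
        exact ⟨(P.coeff i).2, hPc i⟩
      · rw [Polynomial.eval_map, ← Polynomial.aeval_def, IntermediateField.aeval_coe, hPe]
        rfl
    choose c d hc hd hdv hcd using fun j => exists_frac_int W _ ET.val.toRingHom
      (show W.comap (ET.val.toRingHom.comp (algebraMap FT ET)) = W.comap (algebraMap FT Ω) from rfl)
      (z := ⟨z j, (hz j).2⟩) (hz j).1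
    refine ⟨((∏ k, d k : ET) : Ω), ?_, fun j => ?_⟩
    · simp only [IntermediateField.coe_prod, map_prod]
      exact Finset.prod_eq_one fun k _ => hdv k
    · have e : z j * ((∏ k, d k : ET) : Ω) = ((c j * ∏ k ∈ Finset.univ.erase j, d k : ET) : Ω) := by
        rw [← Finset.mul_prod_erase Finset.univ d (Finset.mem_univ j), ← hcd j]
        simp only [MulMemClass.coe_mul, mul_assoc]
      rw [e]
      refine hIint _ ?_
      letI : Algebra (W.comap (algebraMap FT Ω)) ET :=
        ((algebraMap FT ET).comp (algebraMap (W.comap (algebraMap FT Ω)) FT)).toAlgebra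
      haveI : IsScalarTower (W.comap (algebraMap FT Ω)) FT ET := .of_algebraMap_eq fun _ => rfl
      exact (isInt_iff _).2 (((isInt_iff _).1 (hc j)).mul (IsIntegral.prod _ fun k _ => (isInt_iff _).1 (hd k)))

end Groth.Agent.Sol23
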