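import Groth.Agent.Sol23.Tower
import Groth.Agent.Sol23.Hres
import Groth.Agent.Sol23.Stage

/-!
# Valuation subrings with independent residues over a tower
-/

set_option autoImplicit false
set_option linter.unusedSectionVars false
set_option linter.style.haveILetI false

universe u

open IsLocalRing MvPolynomial

namespace Groth.Agent.Sol23

variable (A : Type u) [CommRing A] [IsDomain A] [IsDiscreteValuationRing A]
  {K : Type u} [Field K] [Algebra A K] [IsFractionRing A K]
  {Ω : Type u} [Field Ω] [Algebra K Ω] [Algebra A Ω] [IsScalarTower A K Ω]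
  {σ : Type u} (x : σ → Ω)

/-- `W` dominates `A`, and the residues of `x` are independent over that of `A`. -/
structure Adm (W : ValuationSubring Ω) : Prop where
  mem : ∀ a : A, algebraMap A Ω a ∈ W
  lt : ∀ a ∈ maximalIdeal A, W.valuation (algebraMap A Ω a) < 1
  var : ∀ i, x i ∈ W
  unit : ∀ P : MvPolynomial σ A, (∃ m, IsUnit (P.coeff m)) → W.valuation (aeval x P) = 1

variable {A x} {W : ValuationSubring Ω} (hW : Adm A x W)

variable (K) in
/-- The bottom field. -/
abbrev bot₀ (Ω : Type u) [Field Ω] [Algebra K Ω] : Subfield Ω := (algebraMap K Ω).fieldRange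

include hW

theorem Adm.lt_one {π : A} (hπ : Irreducible π) : W.valuation (algebraMap A Ω π) < 1 :=
  hW.lt π ((mem_maximalIdeal π).2 hπ.not_isUnit)

theorem Adm.mem_bot (hc : ∀ c ∈ bot₀ K Ω, c ∈ W → IsIntegral A c) {c : Ω} (hcK : c ∈ bot₀ K Ω)
    (hcW : c ∈ W) : ∃ a : A, algebraMap A Ω a = c := by
  obtain ⟨k, rfl⟩ := hcK
  have h := hc _ ⟨k, rfl⟩ hcW
  rw [isIntegral_algebraMap_iff (algebraMap K Ω).injective] at h
  obtain ⟨a, ha⟩ := IsIntegrallyClosed.algebraMap_eq_of_integral h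
  exact ⟨a, by rw [IsScalarTower.algebraMap_apply A K Ω, ha]⟩

theorem Adm.indep_bot : AlgebraicIndependent (res W (bot₀ K Ω)) fun i => residue W ⟨x i, hW.var i⟩ := by
  classical
  obtain ⟨π, hπ⟩ := IsDiscreteValuationRing.exists_irreducible A
  have hc : ∀ c ∈ bot₀ K Ω, c ∈ W → IsIntegral A c := by
    rintro c ⟨k, rfl⟩ hk
    exact (mem_iff_isIntegral_of_unr (K := K) hπ (isUnr_bot hπ) W hW.mem (hW.lt_one hπ)
      (IntermediateField.mem_bot.2 ⟨k, rfl⟩)).1 hk
  rw [algebraicIndependent_iff]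
  intro R hR
  by_contra hR0
  have hlift : ∀ m, ∃ a : A, residue W ⟨algebraMap A Ω a, hW.mem a⟩ =
      ((R.coeff m : res W (bot₀ K Ω)) : ResidueField W) ∧ (R.coeff m = 0 → a = 0) := by
    intro m
    rcases eq_or_ne (R.coeff m) 0 with h0 | h0
    · refine ⟨0, ?_, fun _ => rfl⟩
      rw [show ((R.coeff m : res W (bot₀ K Ω)) : ResidueField W) = 0 from congrArg Subtype.val h0,
        res_eq_zero, map_zero, map_zero]
      exact zero_lt_one
    obtain ⟨c, hcW, hcK, hcr⟩ := (mem_res W).1 (R.coeff m).2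
    obtain ⟨a, rfl⟩ := hW.mem_bot hc hcK hcW
    exact ⟨a, hcr, fun h => absurd h h0⟩
  choose a ha ha0 using hlift
  let P : MvPolynomial σ A := ∑ m ∈ R.support, monomial m (a m)
  obtain ⟨m₀, hm₀⟩ := support_nonempty.2 hR0
  have hunit : IsUnit (a m₀) := by
    by_contra hu
    refine mem_support_iff.1 hm₀ (Subtype.ext ?_)
    rw [← ha m₀, ZeroMemClass.coe_zero, res_eq_zero]
    exact hW.lt _ ((mem_maximalIdeal _).2 hu)
  have h1 := hW.unit P ⟨m₀, by
    simp only [P, coeff_sum, coeff_monomial, Finset.sum_ite_eq', hm₀, if_true]; exact hunit⟩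
  let val : W := ∑ m ∈ R.support, ⟨algebraMap A Ω (a m), hW.mem _⟩ * ∏ i ∈ m.support, ⟨x i, hW.var i⟩ ^ m i
  have hval : (val : Ω) = aeval x P := by
    simp only [val, P, AddSubmonoidClass.coe_finsetSum, map_sum, aeval_monomial, Finsupp.prod,
      MulMemClass.coe_mul, SubmonoidClass.coe_finsetProd, SubmonoidClass.coe_pow]
  have h2 : residue W val = 0 := by
    rw [← hR, aeval_def, eval₂_eq]
    simp only [val, map_sum, map_mul, map_prod, map_pow, ha]
    rfl
  rw [residue_eq_zero_iff, W.valuation_lt_one_iff, hval] at h2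
  exact h2.ne h1

variable {π : A} (hπ : Irreducible π) {T : IntermediateField K Ω} (hT : IsUnr (A := A) π T)

include hπ hT

theorem Adm.mem_iff {c : Ω} (hc : c ∈ T) : c ∈ W ↔ IsIntegral A c :=
  mem_iff_isIntegral_of_unr hπ hT W hW.mem (hW.lt_one hπ) hc

theorem Adm.indep : AlgebraicIndependent (res W T.toSubfield) fun i => residue W ⟨x i, hW.var i⟩ := by
  refine algebraicIndependent_res W (F₀ := bot₀ K Ω) (fun c ⟨k, hk⟩ => hk ▸ T.algebraMap_mem k)
    (fun c hc => ?_) hW.indep_bot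
  letI : Algebra K (bot₀ K Ω) := (algebraMap K Ω).rangeRestrictField.toAlgebra
  haveI : IsScalarTower K (bot₀ K Ω) Ω := .of_algebraMap_eq fun _ => rfl
  exact (hT.1 c hc).tower_top (bot₀ K Ω)

theorem Adm.value {c : Ω} (hc : c ∈ T) (hc0 : c ≠ 0) :
    ∃ n : ℤ, W.valuation c = W.valuation (algebraMap A Ω π) ^ n := by
  obtain ⟨n, h1, h2⟩ := hT.2 c hc hc0
  refine ⟨n, ?_⟩
  have hpT : algebraMap A Ω π ^ n ∈ T := zpow_mem (by
    rw [IsScalarTower.algebraMap_apply A K Ω]; exact T.algebraMap_mem _) n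
  have h1' := (hW.mem_iff hπ hT (div_mem hc hpT)).2 h1
  have h2' := (hW.mem_iff hπ hT (div_mem hpT hc)).2 h2
  have hp := pi_ne_zero (K := K) (Ω := Ω) hπ
  rw [← W.valuation_le_one_iff, map_div₀, div_le_one₀ (zero_lt_iff.2 (W.valuation.ne_zero_iff.2
    (zpow_ne_zero _ hp))), map_zpow₀] at h1'
  rw [← W.valuation_le_one_iff, map_div₀, div_le_one₀ (zero_lt_iff.2 (W.valuation.ne_zero_iff.2 hc0)),
    map_zpow₀] at h2'
  exact le_antisymm h1' h2'

theorem Adm.isAlgClosed_res {V : ValuationSubring T} (hV : ∀ y : T, y ∈ V ↔ IsIntegral A (y : Ω))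
    (hVm : ∀ y : V, y ∈ maximalIdeal V → IsIntegral A (((y : T) : Ω) / algebraMap A Ω π))
    [IsAlgClosed (ResidueField V)] : IsAlgClosed (res W T.toSubfield) := by
  let g : V →+* W := ((algebraMap T Ω).comp V.subtype).codRestrict W fun y =>
    (hW.mem_iff hπ hT (y : T).2).2 ((hV _).1 y.2)
  haveI : IsLocalHom g := by
    refine ⟨fun y hy => ?_⟩
    by_contra hyu
    have hd := hVm y ((mem_maximalIdeal y).2 hyu)
    have hpT : algebraMap A Ω π ∈ T := by
      rw [IsScalarTower.algebraMap_apply A K Ω]; exact T.algebraMap_mem _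
    have hdW := (hW.mem_iff hπ hT (div_mem (y : T).2 hpT)).2 hd
    refine (W.valuation_lt_one_iff (g y)).2 ?_ hy
    show W.valuation ((y : T) : Ω) < 1
    rw [← div_mul_cancel₀ ((y : T) : Ω) (pi_ne_zero (K := K) (Ω := Ω) hπ), map_mul]
    exact lt_of_le_of_lt (mul_le_of_le_one_left' ((W.valuation_le_one_iff _).2 hdW)) (hW.lt_one hπ)
  let φ : ResidueField V →+* res W T.toSubfield := (ResidueField.map g).codRestrict _ fun r => by
    obtain ⟨y, rfl⟩ := residue_surjective r
    exact residue_mem_res W (g y).2 (y : T).2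
  refine IsAlgClosed.of_ringEquiv (ResidueField V) _ (RingEquiv.ofBijective φ ⟨φ.injective, fun r => ?_⟩)
  obtain ⟨c, hcW, hcT, hcr⟩ := (mem_res W).1 r.2
  exact ⟨residue V ⟨⟨c, hcT⟩, (hV _).2 ((hW.mem_iff hπ hT hcT).1 hcW)⟩, Subtype.ext hcr⟩

omit hπ hT in
/-- Residue fields do not grow along algebraic extensions of a field with algebraically closed residue field. -/
theorem res_eq_of_algebraic {F F' : Subfield Ω} (hle : F ≤ F') [IsAlgClosed (res W F)]
    (halg : ∀ c ∈ F', IsIntegral F c) : res W F' = res W F := by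
  refine le_antisymm (fun r hr => ?_) (res_mono W hle)
  obtain ⟨c, hcW, hcF, rfl⟩ := (mem_res W).1 hr
  haveI := IntermediateField.adjoin.finiteDimensional (halg c hcF)
  obtain ⟨R, hR, -, hRr⟩ := exists_residue_poly W hcW (IntermediateField.mem_adjoin_simple_self F c)
  have hint : IsIntegral (res W F) (residue W ⟨c, hcW⟩) := IsAlgebraic.isIntegral ⟨R, hR, hRr⟩
  obtain ⟨k, hk⟩ := minpoly.degree_eq_one_iff.1
    (IsAlgClosed.degree_eq_one_of_irreducible (res W F) (minpoly.irreducible hint))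
  exact hk ▸ k.2

end Groth.Agent.Sol23
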