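import Mathlib.FieldTheory.Galois.Basic
import Mathlib.RingTheory.Norm.Basic
import Mathlib.FieldTheory.PurelyInseparable.Basic
import Mathlib.RingTheory.Ideal.Operations
import Groth.Agent.Sol23.Frame

/-!
# Valuation subrings over a discrete valuation ring in finite extensions
-/

set_option autoImplicit false
set_option linter.unusedSectionVars false
set_option linter.style.haveILetI false

universe u

open IsLocalRing

namespace Groth.Agent.Sol23

variable {F E : Type u} [Field F] [Field E] [Algebra F E] [FiniteDimensional F E]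
  (G : ValuationSubring F) [IsDiscreteValuationRing G]

/-- One inclusion up to conjugation. -/
theorem exists_comap_le [IsGalois F E] (W W' : ValuationSubring E)
    (hW : W.comap (algebraMap F E) = G) (hW' : W'.comap (algebraMap F E) = G) :
    ∃ σ : E ≃ₐ[F] E, W.comap (σ : E →+* E) ≤ W' := by
  classical
  letI : Algebra G E := ((algebraMap F E).comp (algebraMap G F)).toAlgebra
  haveI : IsScalarTower G F E := .of_algebraMap_eq fun _ => rfl
  have hW1 : ∀ a ∈ G, algebraMap F E a ∈ W := fun a ha => by rwa [← hW] at ha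
  have hW1' : ∀ a ∈ G, algebraMap F E a ∈ W' := fun a ha => by rwa [← hW'] at ha
  let S := integralClosure G E
  have hS : ∀ z : S, IsInt G (z : E) := fun z => (isInt_iff G).2 z.2
  have hσ : ∀ (σ : E ≃ₐ[F] E) (z : E), IsInt G z → IsInt G (σ z) := by
    rintro σ z ⟨P, hP, hc, hz⟩
    exact ⟨P, hP, hc, by rw [Polynomial.aeval_algEquiv, AlgHom.comp_apply, hz, map_zero]⟩
  let q' : Ideal S := (maximalIdeal W').comap (S.val.toRingHom.codRestrict W' fun z =>
    mem_of_isInt W' G (RingHom.id E) hW1' (hS z))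
  let q : (E ≃ₐ[F] E) → Ideal S := fun σ => (maximalIdeal W).comap
    (((σ : E →+* E).comp S.val.toRingHom).codRestrict W fun z =>
      mem_of_isInt W G (RingHom.id E) hW1 (hσ σ _ (hS z)))
  have hq' : ∀ z : S, z ∈ q' ↔ W'.valuation (z : E) < 1 := fun z => W'.valuation_lt_one_iff _
  have hq : ∀ σ (z : S), z ∈ q σ ↔ W.valuation (σ (z : E)) < 1 := fun σ z => W.valuation_lt_one_iff _
  obtain ⟨σ, hle⟩ : ∃ σ, q' ≤ q σ := by
    have hsub : (q' : Set S) ⊆ ⋃ σ ∈ (Finset.univ : Finset (E ≃ₐ[F] E)), (q σ : Set S) := by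
      intro z hz
      by_contra hnot
      simp only [Set.mem_iUnion, not_exists, Finset.mem_univ, SetLike.mem_coe, hq] at hnot
      have hN := Algebra.norm_eq_prod_automorphisms F (z : E)
      have h1 : ∀ σ : E ≃ₐ[F] E, W.valuation (σ (z : E)) = 1 := fun σ => le_antisymm
        ((W.valuation_le_one_iff _).2 (mem_of_isInt W G (RingHom.id E) hW1 (hσ σ _ (hS z))))
        (not_lt.1 (hnot σ trivial))
      have h2 : W'.valuation (algebraMap F E (Algebra.norm F (z : E))) < 1 := by
        rw [hN, map_prod, ← Finset.mul_prod_erase _ _ (Finset.mem_univ (1 : E ≃ₐ[F] E))]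
        refine lt_of_le_of_lt (mul_le_of_le_one_right' (Finset.prod_le_one' fun σ _ => ?_)) ((hq' z).1 hz)
        exact (W'.valuation_le_one_iff _).2 (mem_of_isInt W' G (RingHom.id E) hW1' (hσ σ _ (hS z)))
      rw [← val_comap_lt_one, hW'.trans hW.symm, val_comap_lt_one, hN, map_prod] at h2
      exact h2.ne (Finset.prod_eq_one fun σ _ => h1 σ)
    obtain ⟨σ, -, hle⟩ := (Ideal.subset_union_prime 1 1 fun σ _ _ _ => Ideal.comap_isPrime _ _).1 hsub
    exact ⟨σ, hle⟩
  refine ⟨σ, fun y hy => ?_⟩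
  have hGσ : W.comap ((σ : E →+* E).comp (algebraMap F E)) = G := by
    ext a
    show σ (algebraMap F E a) ∈ W ↔ a ∈ G
    rw [σ.commutes, ← hW]
    rfl
  obtain ⟨c, d, hc, hd, hdv, hcd⟩ := exists_frac_int W G (σ : E →+* E) hGσ (z := y) hy
  have hdv' : W'.valuation d = 1 := by
    refine le_antisymm ((W'.valuation_le_one_iff _).2 (mem_of_isInt W' G (RingHom.id E) hW1' hd))
      (not_lt.1 fun hlt => ?_)
    have := (hq σ ⟨d, (isInt_iff G).1 hd⟩).1 (hle ((hq' ⟨d, (isInt_iff G).1 hd⟩).2 hlt))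
    exact this.ne hdv
  have hc' : W'.valuation c ≤ 1 := (W'.valuation_le_one_iff _).2 (mem_of_isInt W' G (RingHom.id E) hW1' hc)
  rwa [← hcd, map_mul, hdv', mul_one, W'.valuation_le_one_iff] at hc'

/-- Valuation subrings over `G` in a Galois extension are conjugate. -/
theorem exists_comap_eq_galois [IsGalois F E] (W W' : ValuationSubring E)
    (hW : W.comap (algebraMap F E) = G) (hW' : W'.comap (algebraMap F E) = G) :
    ∃ σ : E ≃ₐ[F] E, W.comap (σ : E →+* E) = W' := by
  obtain ⟨σ, hσ⟩ := exists_comap_le G W W' hW hW'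
  obtain ⟨τ, hτ⟩ := exists_comap_le G W' W hW' hW
  refine ⟨σ, le_antisymm hσ fun y hy => ?_⟩
  have hρ : ∀ z, (σ * τ) z ∈ W → z ∈ W := fun z hz => hτ (show τ z ∈ W' from hσ hz)
  have hρn : ∀ (n : ℕ) z, ((σ * τ) ^ n) z ∈ W → z ∈ W := by
    intro n
    induction n with
    | zero => exact fun z h => h
    | succ n ih => intro z h; rw [pow_succ, AlgEquiv.mul_apply] at h; exact hρ z (ih _ h)
  have hN := pow_card_eq_one' (G := E ≃ₐ[F] E) (x := σ * τ)
  obtain ⟨N, hN'⟩ := Nat.exists_eq_succ_of_ne_zero (Nat.card_pos (α := E ≃ₐ[F] E)).ne'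
  rw [hN', pow_succ'] at hN
  -- `τ⁻¹ y` lies in `W`
  have h1 : τ⁻¹ y ∈ W := by
    refine hτ ?_
    show τ (τ⁻¹ y) ∈ W'
    rw [← AlgEquiv.mul_apply, mul_inv_cancel, AlgEquiv.one_apply]
    exact hy
  have h2 : (σ * τ) (τ⁻¹ y) ∈ W := by
    refine hρn N _ ?_
    rw [← AlgEquiv.mul_apply, show (σ * τ) ^ N * (σ * τ) = 1 by rw [← pow_succ, pow_succ']; exact hN]
    exact h1
  show σ y ∈ W
  rwa [AlgEquiv.mul_apply, ← AlgEquiv.mul_apply τ, mul_inv_cancel, AlgEquiv.one_apply] at h2

/-- Finitely many valuation subrings lie over `G`. -/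
theorem finite_over : {W : ValuationSubring E | W.comap (algebraMap F E) = G}.Finite := by
  classical
  let q := ringExpChar F
  let Es := separableClosure F E
  letI : Algebra G Es := ((algebraMap F Es).comp (algebraMap G F)).toAlgebra
  haveI : IsScalarTower G F Es := .of_algebraMap_eq fun _ => rfl
  haveI : Module.Finite G (integralClosure G Es) := IsIntegralClosure.finite G F Es _
  refine Set.Finite.of_finite_image (f := fun W => W.comap (algebraMap Es E))
    ((Ram24.finite_dominating (B := G) (L := F) (M := Es)).subset ?_) ?_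
  · rintro _ ⟨W, hW, rfl⟩
    subst hW
    refine ⟨fun a => a.2, fun a ha => ?_⟩
    exact (val_comap_lt_one W (algebraMap Es E) _).2
      ((val_comap_lt_one W (algebraMap F E) (a : F)).1 ((ValuationSubring.valuation_lt_one_iff _ a).1 ha))
  · intro W _ W' _ h
    ext z
    obtain ⟨n, y, hy⟩ := IsPurelyInseparable.pow_mem Es (ringExpChar Es) z
    have key : ∀ V : ValuationSubring E, z ∈ V ↔ y ∈ V.comap (algebraMap Es E) := fun V => by
      rw [ValuationSubring.mem_comap, hy]
      refine ⟨fun hz => pow_mem hz _, fun hz => ?_⟩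
      rw [← V.valuation_le_one_iff, map_pow] at hz
      rw [← V.valuation_le_one_iff]
      exact (pow_le_one_iff (pow_ne_zero n (expChar_ne_zero Es (ringExpChar Es)))).1 hz
    rw [key, key]
    exact iff_of_eq (congrArg (y ∈ ·) h)

end Groth.Agent.Sol23
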