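import Mathlib.FieldTheory.Normal.Basic
import Mathlib.FieldTheory.Galois.Basic
import Groth.Agent.Epp23.Reduce
import Groth.Agent.Sol23.Conj
import Groth.Agent.Sol23.Base

/-!
# The weak solution over the tower
-/

set_option autoImplicit false
set_option linter.unusedSectionVars false
set_option linter.style.haveILetI false

universe u

open IsLocalRing

namespace Groth.Agent.Sol23

theorem dominates_comap_comap {Ω F E : Type u} [Field Ω] [Field F] [Field E] (W : ValuationSubring Ω)
    (f : F →+* E) (g : E →+* Ω) :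
    EtRam.Dominates (W.comap (g.comp f)) (f.comp (W.comap (g.comp f)).subtype) (W.comap g) := by
  refine ⟨fun a => a.2, fun a ha => ?_⟩
  rw [val_comap_lt_one]
  exact (val_comap_lt_one W (g.comp f) (a : F)).1 (((W.comap (g.comp f)).valuation_lt_one_iff a).1 ha)

/-- Reading weak unramifiedness in the values. -/
theorem weak_values {Ω K₁ M : Type u} [Field Ω] [Field K₁] [Field M] (W : ValuationSubring Ω)
    (i : M →+* Ω) (g : K₁ →+* M) [IsDiscreteValuationRing ((W.comap i).comap g)]
    (hweak : letI : Algebra ((W.comap i).comap g) (W.comap i) := (EtRam.inclOfComap (W.comap i) g).toAlgebra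
      EtRam.IsWeaklyUnramified ((W.comap i).comap g) (W.comap i)) :
    ∃ r : K₁, r ≠ 0 ∧ W.valuation (i (g r)) < 1 ∧
      (∀ y : M, W.valuation (i y) < 1 → i y / i (g r) ∈ W) ∧
      ∀ k : K₁, k ≠ 0 → ∃ n : ℤ, W.valuation (i (g k)) = W.valuation (i (g r)) ^ n := by
  set R := (W.comap i).comap g
  obtain ⟨r, hr⟩ := IsDiscreteValuationRing.exists_irreducible R
  have hr1 : (r : K₁) ≠ 0 := fun h => hr.ne_zero (Subtype.ext h)
  have hr0 : i (g (r : K₁)) ≠ 0 := (map_ne_zero i).2 ((map_ne_zero g).2 hr1)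
  have hrlt : W.valuation (i (g (r : K₁))) < 1 := by
    have h := (R.valuation_lt_one_iff r).1 ((mem_maximalIdeal r).2 hr.not_isUnit)
    rw [val_comap_lt_one, val_comap_lt_one] at h
    exact h
  refine ⟨r, hr1, hrlt, fun y hy1 => ?_, fun k hk0 => ?_⟩
  · let yU : W.comap i := ⟨y, (W.valuation_le_one_iff (i y)).1 hy1.le⟩
    have hyU : yU ∈ maximalIdeal (W.comap i) :=
      ((W.comap i).valuation_lt_one_iff yU).2 ((val_comap_lt_one W i y).2 hy1)
    rw [← hweak, (IsDiscreteValuationRing.irreducible_iff_uniformizer r).1 hr, Ideal.map_span,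
      Set.image_singleton, Ideal.mem_span_singleton'] at hyU
    obtain ⟨w, hw⟩ := hyU
    have h2 : i (w : M) * i (g (r : K₁)) = i y := by
      rw [← map_mul]; exact congrArg (fun t : W.comap i => i (t : M)) hw
    rw [← h2, mul_div_cancel_right₀ _ hr0]
    exact w.2
  · obtain ⟨a, b, hb, rfl⟩ := IsFractionRing.div_surjective (A := R) k
    have hb0 := nonZeroDivisors.ne_zero hb
    have ha0 : a ≠ 0 := fun h => hk0 (by rw [h, map_zero, zero_div])
    have key : ∀ t : R, t ≠ 0 → ∃ n : ℕ, W.valuation (i (g (t : K₁))) = W.valuation (i (g (r : K₁))) ^ n := by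
      intro t ht
      obtain ⟨n, v, rfl⟩ := IsDiscreteValuationRing.eq_unit_mul_pow_irreducible ht hr
      refine ⟨n, ?_⟩
      have hle : ∀ v : Rˣ, W.valuation (i (g ((v : R) : K₁))) ≤ 1 :=
        fun v => (W.valuation_le_one_iff _).2 (v : R).2
      have hv : W.valuation (i (g ((v : R) : K₁))) = 1 := by
        refine le_antisymm (hle v) ?_
        have h1 : W.valuation (i (g ((v : R) : K₁))) * W.valuation (i (g ((↑v⁻¹ : R) : K₁))) = 1 := by
          rw [← map_mul, ← map_mul, ← map_mul, ← MulMemClass.coe_mul, v.mul_inv, OneMemClass.coe_one,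
            map_one, map_one, map_one]
        calc (1 : W.ValueGroup) = _ := h1.symm
          _ ≤ W.valuation (i (g ((v : R) : K₁))) * 1 := by gcongr; exact hle _
          _ = _ := mul_one _
      rw [MulMemClass.coe_mul, SubmonoidClass.coe_pow, map_mul, map_pow, map_mul, map_pow, map_mul, hv,
        one_mul, map_pow]
    obtain ⟨m, hm⟩ := key a ha0
    obtain ⟨n, hn⟩ := key b hb0
    refine ⟨(m : ℤ) - n, ?_⟩
    rw [map_div₀, map_div₀, map_div₀, zpow_sub₀ (W.valuation.ne_zero_iff.2 hr0), zpow_natCast, zpow_natCast]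
    show W.valuation (i (g (a : K₁))) / W.valuation (i (g (b : K₁))) = _
    rw [hm, hn]

/-- `E` and generators of a compositum generate it also with a twisted structure map. -/
theorem adjoin_eq_top_twist {Ω : Type u} [Field Ω] {F : Subfield Ω} (E E₁ : IntermediateField F Ω)
    [FiniteDimensional F E] (hle : E ≤ E₁) (τ : E ≃ₐ[F] E) {S : Set Ω} (hS : ∀ a ∈ S, IsIntegral F a)
    (hE₁ : E₁ ≤ E ⊔ IntermediateField.adjoin F S) {R : Set E₁}
    (hR : ∀ a ∈ S, ∃ h : a ∈ E₁, (⟨a, h⟩ : E₁) ∈ R) :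
    letI : Algebra E E₁ := ((IntermediateField.inclusion hle).toRingHom.comp (τ : E →+* E)).toAlgebra
    Algebra.adjoin E R = ⊤ := by
  letI : Algebra E E₁ := ((IntermediateField.inclusion hle).toRingHom.comp (τ : E →+* E)).toAlgebra
  rw [eq_top_iff]
  rintro ⟨z, hz⟩ -
  have hz' : z ∈ Algebra.adjoin F ((E : Set Ω) ∪ S) := by
    have h1 : z ∈ IntermediateField.adjoin F ((E : Set Ω) ∪ S) := by
      rw [IntermediateField.adjoin_union, IntermediateField.adjoin_self]
      exact hE₁ hz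
    rwa [← IntermediateField.mem_toSubalgebra, IntermediateField.adjoin_toSubalgebra_of_isAlgebraic] at h1
    rintro a (ha | ha)
    · exact ((IsIntegral.of_finite F (⟨a, ha⟩ : E)).map E.val).isAlgebraic
    · exact (hS a ha).isAlgebraic
  suffices h : ∃ hzE : z ∈ E₁, (⟨z, hzE⟩ : E₁) ∈ Algebra.adjoin E R from h.2
  clear hz
  have hmem : ∀ a : E, IntermediateField.inclusion hle a ∈ Algebra.adjoin E R := fun a => by
    have h := (Algebra.adjoin E R).algebraMap_mem (τ.symm a)
    have e : algebraMap E E₁ (τ.symm a) = IntermediateField.inclusion hle a :=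
      congrArg (IntermediateField.inclusion hle) (τ.apply_symm_apply a)
    rwa [e] at h
  induction hz' using Algebra.adjoin_induction with
  | mem a ha =>
    rcases ha with ha | ha
    · exact ⟨hle ha, hmem ⟨a, ha⟩⟩
    · obtain ⟨h, h'⟩ := hR a ha
      exact ⟨h, Algebra.subset_adjoin h'⟩
  | algebraMap c => exact ⟨E₁.algebraMap_mem c, hmem (algebraMap F E c)⟩
  | add a b _ _ ha hb => exact ⟨add_mem ha.1 hb.1, Subalgebra.add_mem _ ha.2 hb.2⟩
  | mul a b _ _ ha hb => exact ⟨mul_mem ha.1 hb.1, Subalgebra.mul_mem _ ha.2 hb.2⟩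

variable {A : Type u} [CommRing A] [IsDomain A] [IsDiscreteValuationRing A]
  {K : Type u} [Field K] [Algebra A K] [IsFractionRing A K]
  {Ω : Type u} [Field Ω] [Algebra K Ω] [Algebra A Ω] [IsScalarTower A K Ω]
  {σ : Type u} {x : σ → Ω} {π : A} (hπ : Irreducible π)
  {T₀ : IntermediateField K Ω} (hT : IsUnr (A := A) π T₀) {V : ValuationSubring T₀}
  (hV : ∀ y : T₀, y ∈ V ↔ IsIntegral A (y : Ω))
  (hVm : ∀ y : V, y ∈ maximalIdeal V → IsIntegral A (((y : T₀) : Ω) / algebraMap A Ω π))

include hπ hT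

/-- The Gauss ring on `T₀(x)` does not depend on the valuation subring. -/
theorem comap_bas_eq {W W' : ValuationSubring Ω} (hW : Adm A x W) (hW' : Adm A x W') :
    W'.comap (algebraMap (bas x T₀.toSubfield) Ω) = W.comap (algebraMap (bas x T₀.toSubfield) Ω) := by
  ext f
  exact gauss_unique W' hW'.var hW.var (hW'.indep hπ hT) (hW.indep hπ hT)
    (fun c hc => (hW'.mem_iff hπ hT hc).trans (hW.mem_iff hπ hT hc).symm) f.2

theorem dvr_bas {W : ValuationSubring Ω} (hW : Adm A x W) :
    IsDiscreteValuationRing (W.comap (algebraMap (bas x T₀.toSubfield) Ω)) := by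
  have hp := pi_ne_zero (K := K) (Ω := Ω) hπ
  refine dvr_of_values W _ (le_bas x _ (show algebraMap A Ω π ∈ T₀ by
    rw [IsScalarTower.algebraMap_apply A K Ω]; exact T₀.algebraMap_mem _)) hp (hW.lt_one hπ) fun f hf hf0 => ?_
  obtain ⟨c, hc, hcv⟩ := exists_val_eq W hW.var (hW.indep hπ hT) hf
  obtain ⟨n, hn⟩ := hW.value hπ hT hc fun h => by
    rw [h, map_zero] at hcv; exact hf0 (W.valuation.zero_iff.1 hcv)
  exact ⟨n, hcv.trans hn⟩

include hV hVm

omit hV in
theorem lt_one_of_mem {W : ValuationSubring Ω} (hW : Adm A x W) {y : V} (hy : y ∈ maximalIdeal V) :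
    W.valuation ((y : T₀) : Ω) < 1 := by
  have hpT : algebraMap A Ω π ∈ T₀ := by
    rw [IsScalarTower.algebraMap_apply A K Ω]; exact T₀.algebraMap_mem _
  have hdW := (hW.mem_iff hπ hT (div_mem (y : T₀).2 hpT)).2 (hVm y hy)
  rw [← div_mul_cancel₀ ((y : T₀) : Ω) (pi_ne_zero (K := K) (Ω := Ω) hπ), map_mul]
  exact lt_of_le_of_lt (mul_le_of_le_one_left' ((W.valuation_le_one_iff _).2 hdW)) (hW.lt_one hπ)

/-- The hypothesis of Epp's theorem over the tower. -/
theorem hres_aux [IsDiscreteValuationRing V] [IsAlgClosed (ResidueField V)] {W : ValuationSubring Ω}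
    (hW : Adm A x W) (E : IntermediateField (bas x T₀.toSubfield) Ω)
    [FiniteDimensional (bas x T₀.toSubfield) E] (p : ℕ) [Fact p.Prime] [CharP (ResidueField W) p]
    {r : ResidueField W} (hr : ∀ n : ℕ, ∃ y ∈ res W E.toSubfield, y ^ p ^ n = r) :
    r ∈ res W T₀.toSubfield := by
  haveI := hW.isAlgClosed_res hπ hT hV hVm
  set k := res W T₀.toSubfield
  set xb : σ → ResidueField W := fun i => residue W ⟨x i, hW.var i⟩
  have hind : AlgebraicIndependent k xb := hW.indep hπ hT
  have hsub : res W (bas x T₀.toSubfield) ≤ (IntermediateField.adjoin k (Set.range xb)).toSubfield := by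
    intro a ha
    obtain ⟨R₁, R₂, -, rfl⟩ := res_bas W hW.var hind ha
    exact (IntermediateField.mem_adjoin_range_iff k xb _).2 ⟨R₁, R₂, rfl⟩
  have hsep : IsSeparable k r := by
    refine isSeparable_of_roots_bdd p k hind (Module.finrank (bas x T₀.toSubfield) E)
      (S := res W E.toSubfield) (fun y hy => ?_) hr
    obtain ⟨a, haW, haE, rfl⟩ := (mem_res W).1 hy
    obtain ⟨R, hR, hRd, hRy⟩ := exists_residue_poly W haW (E := E) haE
    let i : res W (bas x T₀.toSubfield) →+* IntermediateField.adjoin k (Set.range xb) :=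
      Subfield.inclusion hsub
    refine ⟨R.map i, (Polynomial.map_ne_zero_iff i.injective).2 hR, Polynomial.natDegree_map_le.trans hRd, ?_⟩
    rw [Polynomial.aeval_def, Polynomial.eval₂_map]
    exact hRy
  obtain ⟨c, hc⟩ := minpoly.degree_eq_one_iff.1
    (IsAlgClosed.degree_eq_one_of_irreducible k (minpoly.irreducible hsep.isIntegral))
  exact hc ▸ c.2

set_option maxHeartbeats 800000 in
set_option synthInstance.maxHeartbeats 100000 in
/-- A finite extension of `T₀` which is a weak solution at every admissible valuation subring. -/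
theorem exists_weak [IsAlgClosed Ω] [IsDiscreteValuationRing V] [IsAlgClosed (ResidueField V)]
    {W₀ : ValuationSubring Ω} (hW₀ : Adm A x W₀)
    (E : IntermediateField (bas x T₀.toSubfield) Ω) [FiniteDimensional (bas x T₀.toSubfield) E]
    [IsGalois (bas x T₀.toSubfield) E] :
    ∃ (Kp : Subfield Ω) (E₁ : IntermediateField (bas x T₀.toSubfield) Ω),
      FiniteDimensional (bas x T₀.toSubfield) E₁ ∧ T₀.toSubfield ≤ Kp ∧
      (∀ c ∈ Kp, IsIntegral T₀.toSubfield c) ∧ E ≤ E₁ ∧ Kp ≤ E₁.toSubfield ∧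
      ∀ W, Adm A x W → ∃ ρ ∈ Kp, ρ ≠ 0 ∧ W.valuation ρ < 1 ∧
        (∀ y ∈ E₁, W.valuation y < 1 → y / ρ ∈ W) ∧
        ∀ c ∈ Kp, c ≠ 0 → ∃ n : ℤ, W.valuation c = W.valuation ρ ^ n := by
  classical
  haveI := dvr_bas hπ hT hW₀
  set G := W₀.comap (algebraMap (bas x T₀.toSubfield) Ω)
  set B := W₀.comap (algebraMap E Ω)
  have hB : IsDiscreteValuationRing B :=
    Ram24.dvr_of_dominates (B := G) (L := (bas x T₀.toSubfield)) B (dominates_comap_comap W₀ (algebraMap (bas x T₀.toSubfield) E) (algebraMap E Ω))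
  haveI := hB
  let jT : T₀ →+* (bas x T₀.toSubfield) := (algebraMap T₀ Ω).codRestrict (bas x T₀.toSubfield) fun c => le_bas x _ c.2
  letI : Algebra T₀ E := ((algebraMap (bas x T₀.toSubfield) E).comp jT).toAlgebra
  have hVB : ∀ y : V, algebraMap T₀ E (y : T₀) ∈ B := fun y =>
    (hW₀.mem_iff hπ hT (y : T₀).2).2 ((hV _).1 y.2)
  let iVB : V →+* B := ((algebraMap T₀ E).comp V.subtype).codRestrict B hVB
  letI : Algebra V B := iVB.toAlgebra
  haveI hloc : IsLocalHom (algebraMap V B) := by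
    refine ⟨fun y hy => ?_⟩
    by_contra hyu
    refine (B.valuation_lt_one_iff (iVB y)).2 ?_ hy
    rw [val_comap_lt_one]
    exact lt_one_of_mem hπ hT hVm hW₀ ((mem_maximalIdeal y).2 hyu)
  letI : Algebra V E := ((algebraMap T₀ E).comp V.subtype).toAlgebra
  haveI : IsScalarTower V T₀ E := .of_algebraMap_eq fun _ => rfl
  haveI : IsScalarTower V B E := .of_algebraMap_eq fun _ => rfl
  have hinj : Function.Injective (algebraMap V B) := fun a b h =>
    Subtype.ext ((algebraMap T₀ E).injective (congrArg Subtype.val h :))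
  obtain ⟨K₁, hK₁f, hK₁a, hK₁fin, hsol⟩ := Epp23.epp V B T₀ E hinj (fun p hp hpV r hr => by
    haveI : Fact p.Prime := ⟨hp⟩
    let g : B →+* W₀ := EtRam.inclOfComap W₀ (algebraMap E Ω)
    let gr : ResidueField B →+* ResidueField W₀ := ResidueField.map g
    haveI : CharP (ResidueField W₀) p := by
      refine charP_of_injective_ringHom (f := gr.comp (ResidueField.map (algebraMap V B))) ?_ p
      exact RingHom.injective _
    have hmem := hres_aux hπ hT hV hVm hW₀ E p (r := gr r) fun n => by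
      obtain ⟨y, hy⟩ := hr n
      obtain ⟨b, rfl⟩ := residue_surjective y
      exact ⟨gr (residue B b), residue_mem_res W₀ (g b).2 (b : E).2, by rw [← map_pow, hy]⟩
    obtain ⟨c, hcW, hcT, hcr⟩ := (mem_res W₀).1 hmem
    let cV : V := ⟨⟨c, hcT⟩, (hV _).2 ((hW₀.mem_iff hπ hT hcT).1 hcW)⟩
    have h1 : r = algebraMap (ResidueField V) (ResidueField B) (residue V cV) := gr.injective hcr.symm
    rw [h1]
    exact isSeparable_algebraMap _)
  let f : K₁ →ₐ[T₀] Ω := IsAlgClosed.lift
  let bv := Module.finBasis T₀ K₁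
  have hKp : T₀.toSubfield ≤ f.toRingHom.fieldRange := fun c hc =>
    ⟨algebraMap T₀ K₁ ⟨c, hc⟩, f.commutes _⟩
  have hint : ∀ k : K₁, IsIntegral T₀.toSubfield (f k) := fun k => (IsIntegral.of_finite T₀ k).map f
  have hFint : ∀ k : K₁, IsIntegral (bas x T₀.toSubfield) (f k) := fun k => by
    letI : Algebra T₀.toSubfield (bas x T₀.toSubfield) := (Subfield.inclusion (le_bas x T₀.toSubfield)).toAlgebra
    haveI : IsScalarTower T₀.toSubfield (bas x T₀.toSubfield) Ω := .of_algebraMap_eq fun _ => rfl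
    exact (hint k).tower_top
  set E₁ : IntermediateField (bas x T₀.toSubfield) Ω := E ⊔ IntermediateField.adjoin (bas x T₀.toSubfield) (Set.range fun i => f (bv i))
  haveI : FiniteDimensional (bas x T₀.toSubfield) (IntermediateField.adjoin (bas x T₀.toSubfield) (Set.range fun i => f (bv i))) :=
    IntermediateField.finiteDimensional_adjoin fun a ha => by
      obtain ⟨i, rfl⟩ := ha
      exact hFint _
  haveI : FiniteDimensional (bas x T₀.toSubfield) E₁ := IntermediateField.finiteDimensional_sup _ _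
  have hfE₁ : ∀ k : K₁, f k ∈ E₁ := by
    intro k
    rw [← bv.sum_repr k, map_sum]
    refine sum_mem fun i _ => ?_
    rw [map_smul, Algebra.smul_def]
    exact mul_mem (E₁.algebraMap_mem (jT _))
      ((le_sup_right : _ ≤ E₁) (IntermediateField.subset_adjoin _ _ ⟨i, rfl⟩))
  refine ⟨f.toRingHom.fieldRange, E₁, inferInstance, hKp, fun c ⟨k, hk⟩ => hk ▸ hint k, le_sup_left,
    fun c ⟨k, hk⟩ => hk ▸ hfE₁ k, fun W hW => ?_⟩
  have hGW : W.comap (algebraMap (bas x T₀.toSubfield) Ω) = G := comap_bas_eq hπ hT hW₀ hW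
  obtain ⟨τ, hτ⟩ := exists_comap_eq_galois G (W.comap (algebraMap E Ω)) B
    (by rw [ValuationSubring.comap_comap, ← IsScalarTower.algebraMap_eq]; exact hGW)
    (by rw [ValuationSubring.comap_comap, ← IsScalarTower.algebraMap_eq])
  let iE : E →+* E₁ := (IntermediateField.inclusion (le_sup_left : E ≤ E₁)).toRingHom.comp (τ : E →+* E)
  letI : Algebra E E₁ := iE.toAlgebra
  let fr : K₁ →+* E₁ := f.toRingHom.codRestrict E₁ hfE₁
  letI : Algebra K₁ E₁ := fr.toAlgebra
  letI : Algebra T₀ E₁ := ((algebraMap (bas x T₀.toSubfield) E₁).comp jT).toAlgebra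
  haveI : IsScalarTower T₀ E E₁ := .of_algebraMap_eq fun c => Subtype.ext
    (congrArg Subtype.val (τ.commutes (jT c))).symm
  haveI : IsScalarTower T₀ K₁ E₁ := .of_algebraMap_eq fun c => Subtype.ext (f.commutes c).symm
  have hgen : Algebra.adjoin E (Set.range (algebraMap K₁ E₁)) = ⊤ :=
    adjoin_eq_top_twist E E₁ le_sup_left τ (S := Set.range fun i => f (bv i))
      (fun a ⟨i, hi⟩ => hi ▸ hFint _) le_rfl (fun a ⟨i, hi⟩ => hi ▸ ⟨hfE₁ _, bv i, rfl⟩)
  set U := W.comap (algebraMap E₁ Ω)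
  have hU : U.comap iE = B := by
    rw [← hτ]
    rfl
  have hU1 : ∀ e : E, e ∈ B → iE e ∈ U := fun e he => by
    rw [← hU] at he
    exact he
  have hU2 : ∀ e : E, B.valuation e < 1 → U.valuation (iE e) < 1 := fun e he => by
    rw [← hU, val_comap_lt_one] at he
    exact he
  have hdom : EtRam.Dominates B ((algebraMap E E₁).comp (algebraMap B E)) U :=
    ⟨fun b => hU1 b b.2, fun b hb => hU2 b ((B.valuation_lt_one_iff b).1 hb)⟩
  have hweak := hsol E₁ hgen U hdom
  letI : Algebra V K₁ := ((algebraMap T₀ K₁).comp V.subtype).toAlgebra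
  haveI : IsDiscreteValuationRing (U.comap (algebraMap K₁ E₁)) := by
    refine Ram24.dvr_of_dominates (B := V) (L := T₀) _ ⟨fun a => ?_, fun a ha => ?_⟩
    · show f (algebraMap T₀ K₁ (a : T₀)) ∈ W
      rw [f.commutes]
      exact (hW.mem_iff hπ hT (a : T₀).2).2 ((hV _).1 a.2)
    · rw [val_comap_lt_one, val_comap_lt_one]
      show W.valuation (f (algebraMap T₀ K₁ (a : T₀))) < 1
      rw [f.commutes]
      exact lt_one_of_mem hπ hT hVm hW ha
  obtain ⟨r, hr1, hrlt, hdiv, hvals⟩ := weak_values W (algebraMap E₁ Ω) (algebraMap K₁ E₁) hweak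
  exact ⟨f r, ⟨r, rfl⟩, (map_ne_zero f).2 hr1, hrlt, fun y hy => hdiv ⟨y, hy⟩,
    fun c ⟨k, hk⟩ hc0 => hk ▸ hvals k fun h => hc0 (by rw [← hk, h, map_zero])⟩

end Groth.Agent.Sol23
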