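import Mathlib.FieldTheory.SplittingField.IsSplittingField
import Groth.Agent.Sol23.Weak

/-!
# A finite extension which is a solution at every admissible valuation subring
-/

set_option autoImplicit false
set_option linter.unusedSectionVars false
set_option linter.style.haveILetI false

universe u

open IsLocalRing

namespace Groth.Agent.Sol23

/-- Transfer of disjointness between valuation subrings agreeing on a field. -/
theorem disj_congr {Ω : Type u} [Field Ω] {W W' : ValuationSubring Ω} {E Kp T ET : Subfield Ω}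
    (h : W.comap (algebraMap E Ω) = W'.comap (algebraMap E Ω)) (h₁ : Kp ≤ E) (h₂ : T ≤ E) (h₃ : ET ≤ E)
    (hd : Disj W Kp T ET) : Disj W' Kp T ET := by
  have hm : ∀ a ∈ E, (a ∈ W ↔ a ∈ W') := fun a ha => by
    exact Iff.intro (fun h' => (show (⟨a, ha⟩ : E) ∈ W'.comap (algebraMap E Ω) from h ▸ h'))
      fun h' => (show (⟨a, ha⟩ : E) ∈ W.comap (algebraMap E Ω) from h.symm ▸ h')
  have hv : ∀ a ∈ E, (W.valuation a < 1 ↔ W'.valuation a < 1) := fun a ha => by
    rw [show a = algebraMap E Ω ⟨a, ha⟩ from rfl, ← val_comap_lt_one, h, val_comap_lt_one]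
  intro m e he hli z hz hsum j
  rw [← hv _ (h₃ (hz j).2)]
  refine hd m e (fun j => ⟨(hm _ (h₁ (he j).2)).2 (he j).1, (he j).2⟩) (fun c hc hlt i => ?_) z
    (fun j => ⟨(hm _ (h₃ (hz j).2)).2 (hz j).1, (hz j).2⟩) ?_ j
  · rw [hv _ (h₂ (hc i).2)]
    refine hli c (fun i => ⟨(hm _ (h₂ (hc i).2)).1 (hc i).1, (hc i).2⟩) ?_ i
    rwa [← hv _ (sum_mem fun i _ => mul_mem (h₂ (hc i).2) (h₁ (he i).2))]
  · rwa [hv _ (sum_mem fun i _ => mul_mem (h₁ (he i).2) (h₃ (hz i).2))]

variable (A : Type u) [CommRing A] [IsDomain A] [IsDiscreteValuationRing A]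
  {K : Type u} [Field K] [Algebra A K] [IsFractionRing A K]
  {Ω : Type u} [Field Ω] [Algebra K Ω] [Algebra A Ω] [IsScalarTower A K Ω]
  {σ : Type u} (x : σ → Ω)

set_option maxHeartbeats 800000 in
/-- A finite extension of `K` which is a solution at every admissible valuation subring. -/
theorem exists_core [IsAlgClosed Ω] [Finite σ] {W₀ : ValuationSubring Ω} (hW₀ : Adm A x W₀)
    (Pb : Polynomial (bas x (bot₀ K Ω))) (hsep : ∀ r ∈ Pb.rootSet Ω, IsSeparable (bas x (bot₀ K Ω)) r) :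
    ∃ T : IntermediateField K Ω, FiniteDimensional K T ∧ ∀ W, Adm A x W →
      ∃ ρ ∈ T, ρ ≠ 0 ∧ W.valuation ρ < 1 ∧
        (∀ y ∈ top x T.toSubfield (Pb.rootSet Ω), W.valuation y < 1 → y / ρ ∈ W) ∧
        ∃ Kp : Subfield Ω, IsAlgClosed (res W Kp) ∧ T.toSubfield ≤ Kp ∧
          Disj W Kp T.toSubfield (top x T.toSubfield (Pb.rootSet Ω)) := by
  classical
  obtain ⟨π, hπ⟩ := IsDiscreteValuationRing.exists_irreducible A
  obtain ⟨T₀, V, hT, hV, hdvr, hVm, hac⟩ := exists_tower (K := K) (Ω := Ω) hπ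
  haveI := hdvr
  haveI := hac
  have hbot : bot₀ K Ω ≤ T₀.toSubfield := fun c ⟨k, hk⟩ => hk ▸ T₀.algebraMap_mem k
  set R := (Pb.rootSet_finite Ω).toFinset
  have hR : (R : Set Ω) = Pb.rootSet Ω := (Pb.rootSet_finite Ω).coe_toFinset
  let incl := Subfield.inclusion (bas_mono x hbot)
  have hroot : (Pb.map incl).rootSet Ω = Pb.rootSet Ω := by
    rw [Polynomial.rootSet_def, Polynomial.rootSet_def, Polynomial.aroots_def, Polynomial.aroots_def,
      Polynomial.map_map]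
    rfl
  let E : IntermediateField (bas x T₀.toSubfield) Ω :=
    IntermediateField.adjoin _ ((Pb.map incl).rootSet Ω)
  haveI hEs : Polynomial.IsSplittingField (bas x T₀.toSubfield) E (Pb.map incl) :=
    IntermediateField.adjoin_rootSet_isSplittingField (IsAlgClosed.splits _)
  haveI : FiniteDimensional (bas x T₀.toSubfield) E :=
    Polynomial.IsSplittingField.finiteDimensional _ (Pb.map incl)
  haveI : Normal (bas x T₀.toSubfield) E := Normal.of_isSplittingField (Pb.map incl)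
  haveI : Algebra.IsSeparable (bas x T₀.toSubfield) E :=
    (IntermediateField.isSeparable_adjoin_iff_isSeparable _ _).2 fun r hr =>
      isSeparable_of_le (bas_mono x hbot) (hsep r (hroot ▸ hr))
  haveI : IsGalois (bas x T₀.toSubfield) E := ⟨⟩
  obtain ⟨Kp, E₁, hfin, hKp, hKpint, hEE₁, hKpE₁, hweak⟩ := exists_weak hπ hT hV hVm hW₀ E
  haveI := hfin
  have hKp0 : bot₀ K Ω ≤ Kp := hbot.trans hKp
  have hres : ∀ W, Adm A x W → res W Kp = res W T₀.toSubfield := fun W hW => by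
    haveI := hW.isAlgClosed_res hπ hT hV hVm
    exact res_eq_of_algebraic hW hKp hKpint
  have hstage : ∀ W : ValuationSubring Ω, ∃ s : Finset Ω, ↑s ⊆ (Kp : Set Ω) ∧ (Adm A x W →
      ∃ ρ ∈ s, ρ ≠ 0 ∧ W.valuation ρ < 1 ∧ (∀ y ∈ E₁, W.valuation y < 1 → y / ρ ∈ W) ∧
        ∀ T : Subfield Ω, bot₀ K Ω ≤ T → T ≤ Kp → ↑s ⊆ (T : Set Ω) →
          Disj W Kp T (top x T (Pb.rootSet Ω))) := by
    intro W
    by_cases hW : Adm A x W
    · obtain ⟨ρ, hρK, hρ0, hρ, hdiv, hval⟩ := hweak W hW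
      obtain ⟨s, hs, hdis⟩ := exists_stage W hW.var R (bot₀ K Ω) Kp
        (fun r hr => hsep r (hR ▸ hr)) hKp0 hρK hρ0 hρ hval (hres W hW ▸ hW.indep hπ hT)
      refine ⟨insert ρ s, by simpa [Set.insert_subset_iff] using ⟨hρK, hs⟩, fun _ =>
        ⟨ρ, Finset.mem_insert_self _ _, hρ0, hρ, hdiv, fun T h1 h2 h3 => ?_⟩⟩
      rw [← hR]
      exact hdis T h1 h2 fun a ha => h3 (Finset.mem_insert_of_mem ha)
    · exact ⟨∅, by simp, fun h => absurd h hW⟩
  choose s hs hs' using hstage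
  haveI := dvr_bas hπ hT hW₀
  have hfinU : {U : ValuationSubring E₁ | ∃ W, Adm A x W ∧ W.comap (algebraMap E₁ Ω) = U}.Finite := by
    refine (finite_over (W₀.comap (algebraMap (bas x T₀.toSubfield) Ω))).subset ?_
    rintro _ ⟨W, hW, rfl⟩
    show (W.comap _).comap _ = _
    rw [ValuationSubring.comap_comap, ← IsScalarTower.algebraMap_eq]
    exact comap_bas_eq hπ hT hW₀ hW
  choose rep hrep hrep' using fun U : hfinU.toFinset => hfinU.mem_toFinset.1 U.2
  let sT : Finset Ω := Finset.univ.biUnion fun U : hfinU.toFinset => s (rep U)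
  have hsT : (sT : Set Ω) ⊆ Kp := by
    simp only [sT, Finset.coe_biUnion, Set.iUnion_subset_iff]
    exact fun U _ => hs _
  let T : IntermediateField K Ω := IntermediateField.adjoin K (sT : Set Ω)
  have halg : ∀ c ∈ Kp, IsIntegral K c := fun c hc => by
    haveI : Algebra.IsIntegral K T₀ := ⟨fun t =>
      (isIntegral_algebraMap_iff (algebraMap T₀ Ω).injective).1 (hT.1 _ t.2).isIntegral⟩
    exact isIntegral_trans (A := T₀) c (hKpint c hc)
  haveI : FiniteDimensional K T := IntermediateField.finiteDimensional_adjoin fun c hc => halg c (hsT hc)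
  refine ⟨T, inferInstance, fun W hW => ?_⟩
  obtain ⟨U, hU⟩ : ∃ U : hfinU.toFinset, (U : ValuationSubring E₁) = W.comap (algebraMap E₁ Ω) :=
    ⟨⟨_, hfinU.mem_toFinset.2 ⟨W, hW, rfl⟩⟩, rfl⟩
  have hWe : (rep U).comap (algebraMap E₁ Ω) = W.comap (algebraMap E₁ Ω) := (hrep' U).trans hU
  obtain ⟨ρ, hρs, hρ0, hρ, hdiv, hdis⟩ := hs' _ (hrep U)
  have hmemT : ∀ a ∈ s (rep U), a ∈ T := fun a ha =>
    IntermediateField.subset_adjoin _ _ (Finset.mem_biUnion.2 ⟨U, Finset.mem_univ _, ha⟩)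
  have hTKp : T.toSubfield ≤ Kp := by
    show (IntermediateField.adjoin K (sT : Set Ω)).toSubfield ≤ Kp
    rw [IntermediateField.adjoin_toSubfield, Subfield.closure_le]
    exact Set.union_subset (fun c ⟨k, hk⟩ => hKp0 ⟨k, hk⟩) hsT
  have hTbot : bot₀ K Ω ≤ T.toSubfield := fun c ⟨k, hk⟩ => hk ▸ T.algebraMap_mem k
  have htop : top x T.toSubfield (Pb.rootSet Ω) ≤ E₁.toSubfield := by
    rw [top_eq_closure, Subfield.closure_le]
    refine Set.union_subset ?_ fun r hr => hEE₁ (IntermediateField.subset_adjoin _ _ (hroot ▸ hr))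
    refine (Subfield.closure_le (t := E₁.toSubfield)).2 (Set.union_subset ?_ ?_)
    · exact fun c hc => hKpE₁ (hTKp hc)
    · rintro _ ⟨i, rfl⟩
      exact E₁.algebraMap_mem ⟨x i, mem_bas_var x _ i⟩
  have hv : ∀ a (ha : a ∈ E₁), ((rep U).valuation a < 1 ↔ W.valuation a < 1) := fun a ha => by
    rw [show a = algebraMap E₁ Ω ⟨a, ha⟩ from rfl, ← val_comap_lt_one, hWe, val_comap_lt_one]
  have hρE : ρ ∈ E₁ := hKpE₁ (hs _ hρs)
  refine ⟨ρ, hmemT ρ hρs, hρ0, (hv ρ hρE).1 hρ, fun y hy hy1 => ?_, Kp, ?_, hTKp, ?_⟩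
  · have h := hdiv y (htop hy) ((hv y (htop hy)).2 hy1)
    have h' : (⟨y / ρ, div_mem (htop hy) hρE⟩ : E₁) ∈ (rep U).comap (algebraMap E₁ Ω) := h
    rw [hWe] at h'
    exact h'
  · rw [hres W hW]
    exact hW.isAlgClosed_res hπ hT hV hVm
  · exact disj_congr (E := E₁.toSubfield) hWe hKpE₁ (fun c hc => hKpE₁ (hTKp hc)) htop
      (hdis _ hTbot hTKp fun a ha => hmemT a ha)

end Groth.Agent.Sol23
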