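import Mathlib.FieldTheory.Minpoly.Field
import Groth.Agent.Sol23.Core

/-!
# Solutions for separably generated extensions
-/

set_option autoImplicit false
set_option linter.unusedSectionVars false
set_option linter.style.haveILetI false

universe u

open IsLocalRing

namespace Groth.Agent.Sol23

/-- The solution property at one valuation subring, from the data of the core. -/
theorem solution_at {K₁ M Ω : Type u} [Field K₁] [Field M] [Field Ω] (f : K₁ →+* M) (ψ : M →+* Ω)
    (W' : ValuationSubring Ω) {Kp ET : Subfield Ω} [IsAlgClosed (res W' Kp)]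
    (hKp : ∀ t, ψ (f t) ∈ Kp) (hET : ∀ m, ψ m ∈ ET) {ρ : K₁} (hρ0 : ρ ≠ 0)
    (hρ : W'.valuation (ψ (f ρ)) < 1)
    (hdiv : ∀ y ∈ ET, W'.valuation y < 1 → y / ψ (f ρ) ∈ W')
    (hdis : Disj W' Kp (ψ.comp f).fieldRange ET) :
    letI : Algebra ((W'.comap ψ).comap f) (W'.comap ψ) := (EtRam.inclOfComap (W'.comap ψ) f).toAlgebra
    EtRam.IsWeaklyUnramified ((W'.comap ψ).comap f) (W'.comap ψ) ∧
      @Algebra.IsGeometricallyReduced (ResidueField ((W'.comap ψ).comap f)) (ResidueField (W'.comap ψ)) _ _
        (ResidueField.map (EtRam.inclOfComap (W'.comap ψ) f)).toAlgebra := by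
  classical
  letI : Algebra ((W'.comap ψ).comap f) (W'.comap ψ) := (EtRam.inclOfComap (W'.comap ψ) f).toAlgebra
  constructor
  · refine le_antisymm (Ideal.map_le_iff_le_comap.2 fun a ha =>
      map_nonunit (EtRam.inclOfComap (W'.comap ψ) f) a ha) fun y hy => ?_
    have hy1 : W'.valuation (ψ (y : M)) < 1 :=
      (val_comap_lt_one W' ψ _).1 (((W'.comap ψ).valuation_lt_one_iff y).1 hy)
    have hq := hdiv _ (hET _) hy1
    let r : (W'.comap ψ).comap f := ⟨ρ, (W'.valuation_le_one_iff _).1 hρ.le⟩
    have hr : r ∈ maximalIdeal ((W'.comap ψ).comap f) :=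
      (((W'.comap ψ).comap f).valuation_lt_one_iff r).2
        ((val_comap_lt_one _ f ρ).2 ((val_comap_lt_one W' ψ _).2 hρ))
    have hqW : (y : M) / f ρ ∈ W'.comap ψ := by
      show ψ _ ∈ W'
      rw [map_div₀]; exact hq
    have e : y = ⟨_, hqW⟩ * algebraMap ((W'.comap ψ).comap f) (W'.comap ψ) r :=
      Subtype.ext (show (y : M) = (y : M) / f ρ * f ρ from
        (div_mul_cancel₀ _ ((map_ne_zero f).2 hρ0)).symm)
    rw [e]
    exact Ideal.mul_mem_left _ _ (Ideal.mem_map_of_mem _ hr)
  · letI : Algebra (ResidueField ((W'.comap ψ).comap f)) (ResidueField (W'.comap ψ)) :=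
      (ResidueField.map (EtRam.inclOfComap (W'.comap ψ) f)).toAlgebra
    let φ : ResidueField (W'.comap ψ) →+* ResidueField W' := ResidueField.map (EtRam.inclOfComap W' ψ)
    refine geomReduced_of_disjoint φ (res W' Kp) (fun c => ?_) fun m e he hli z hz j => ?_
    · obtain ⟨c, rfl⟩ := residue_surjective c
      exact residue_mem_res W' (c.2 : ψ (f (c : K₁)) ∈ W') (hKp _)
    choose ee heW heK hee using fun j => (mem_res W').1 (he j)
    choose zz hzz using fun j => residue_surjective (z j)
    have h := hdis m ee (fun j => ⟨heW j, heK j⟩) (fun c hc hlt j => ?_) (fun j => ψ (zz j : M))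
      (fun j => ⟨(zz j).2, hET _⟩) ?_ j
    · rw [← hzz j, residue_eq_zero_iff, (W'.comap ψ).valuation_lt_one_iff, val_comap_lt_one]
      exact h
    · choose t ht using fun j => (hc j).2
      let cc : Fin m → (W'.comap ψ).comap f := fun j => ⟨t j, show ψ (f (t j)) ∈ W' from (ht j).symm ▸ (hc j).1⟩
      have h0 := hli (fun j => residue _ (cc j)) (by
        have h1 : residue W' (∑ j, EtRam.inclOfComap W' ψ (EtRam.inclOfComap (W'.comap ψ) f (cc j)) *
            ⟨ee j, heW j⟩) = 0 := by
          rw [residue_eq_zero_iff, W'.valuation_lt_one_iff, AddSubmonoidClass.coe_finsetSum]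
          convert hlt using 3 with i
          exact congrArg (· * ee i) (ht i)
        simp only [map_sum, map_mul, hee] at h1
        exact h1) j
      rw [residue_eq_zero_iff, ((W'.comap ψ).comap f).valuation_lt_one_iff, val_comap_lt_one,
        val_comap_lt_one] at h0
      rw [← ht j]
      exact h0
    · have h1 : residue W' (∑ j, ⟨ee j, heW j⟩ * EtRam.inclOfComap W' ψ (zz j)) = 0 := by
        simp only [map_sum, map_mul, hee]
        refine Eq.trans (Finset.sum_congr rfl fun i _ => ?_) hz
        rw [← hzz i]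
        rfl
      rw [residue_eq_zero_iff, W'.valuation_lt_one_iff, AddSubmonoidClass.coe_finsetSum] at h1
      exact h1

theorem mem_of_mem_adjoin {K L Ω : Type u} [Field K] [Field L] [Field Ω] [Algebra K L] {s : Set L}
    (g : L →+* Ω) (S : Subfield Ω) (hK : ∀ k, g (algebraMap K L k) ∈ S) (hs : ∀ c ∈ s, g c ∈ S) {l : L}
    (hl : l ∈ IntermediateField.adjoin K s) : g l ∈ S := by
  induction hl using IntermediateField.adjoin_induction with
  | mem c hc => exact hs c hc
  | algebraMap k => exact hK k
  | add a b _ _ ha hb => rw [map_add]; exact add_mem ha hb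
  | inv a _ ha => rw [map_inv₀]; exact inv_mem ha
  | mul a b _ _ ha hb => rw [map_mul]; exact mul_mem ha hb

theorem exists_hom_fixing {T M Ω σ : Type u} [Field T] [Field M] [Field Ω] [Algebra T M] [Algebra T Ω]
    [IsAlgClosed Ω] {xM : σ → M} {x : σ → Ω} (hM : AlgebraicIndependent T xM) (hΩ : AlgebraicIndependent T x)
    (halg : ∀ z : M, IsAlgebraic (IntermediateField.adjoin T (Set.range xM)) z) :
    ∃ ψ : M →ₐ[T] Ω, ∀ i, ψ (xM i) = x i := by
  let g : IntermediateField.adjoin T (Set.range xM) →ₐ[T] Ω :=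
    ((IntermediateField.adjoin T (Set.range x)).val).comp
      (hM.aevalEquivField.symm.trans hΩ.aevalEquivField).toAlgHom
  letI : Algebra (IntermediateField.adjoin T (Set.range xM)) Ω := g.toRingHom.toAlgebra
  haveI : Algebra.IsAlgebraic (IntermediateField.adjoin T (Set.range xM)) M := ⟨halg⟩
  let ψ : M →ₐ[IntermediateField.adjoin T (Set.range xM)] Ω := IsAlgClosed.lift
  have hg : ∀ a : IntermediateField.adjoin T (Set.range xM), ψ a = g a := fun a => ψ.commutes a
  refine ⟨{ ψ.toRingHom with commutes' := fun t => ?_ }, fun i => ?_⟩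
  · show ψ (algebraMap T M t) = _
    exact (hg (algebraMap T _ t)).trans (g.commutes t)
  · show ψ (xM i) = x i
    refine (hg ⟨xM i, IntermediateField.subset_adjoin _ _ ⟨i, rfl⟩⟩).trans ?_
    have e : hM.aevalEquivField.symm ⟨xM i, IntermediateField.subset_adjoin _ _ ⟨i, rfl⟩⟩ =
        algebraMap (MvPolynomial σ T) (FractionRing (MvPolynomial σ T)) (MvPolynomial.X i) := by
      rw [AlgEquiv.symm_apply_eq]
      apply Subtype.ext
      rw [hM.aevalEquivField_algebraMap_apply_coe, MvPolynomial.aeval_X]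
    show ((hΩ.aevalEquivField (hM.aevalEquivField.symm _) : _) : Ω) = x i
    rw [e, hΩ.aevalEquivField_algebraMap_apply_coe, MvPolynomial.aeval_X]

set_option maxHeartbeats 1000000 in
/-- A solution exists when `L` is separable over a purely transcendental extension by lifts of
residually independent elements. -/
theorem solution_of_separable (A B K L : Type u) [CommRing A] [IsDomain A] [IsDiscreteValuationRing A]
    [CommRing B] [IsDomain B] [IsDiscreteValuationRing B] [Algebra A B] [IsLocalHom (algebraMap A B)]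
    [Field K] [Field L] [Algebra A K] [IsFractionRing A K] [Algebra B L] [IsFractionRing B L]
    [Algebra K L] [Algebra A L] [IsScalarTower A K L] [IsScalarTower A B L]
    {σ : Type u} [Finite σ] (xB : σ → B)
    (hunit : ∀ P : MvPolynomial σ A, (∃ m, IsUnit (P.coeff m)) → IsUnit (MvPolynomial.aeval xB P))
    (lg : Finset L)
    (hgen : IntermediateField.adjoin K (Set.range (fun i => algebraMap B L (xB i)) ∪ (lg : Set L)) = ⊤)
    (hsep : ∀ l ∈ lg, IsSeparable (IntermediateField.adjoin K (Set.range fun i => algebraMap B L (xB i))) l) :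
    ∃ (K₁ : Type u) (_ : Field K₁) (_ : Algebra K K₁) (_ : FiniteDimensional K K₁),
      EtRam.IsSolution B K L K₁ := by
  classical
  let Ω := AlgebraicClosure L
  let jL : L →+* Ω := algebraMap L Ω
  set xL : σ → L := fun i => algebraMap B L (xB i)
  let x : σ → Ω := fun i => jL (xL i)
  haveI : IsScalarTower A K Ω := .of_algebraMap_eq fun a => by
    rw [IsScalarTower.algebraMap_apply A L Ω, IsScalarTower.algebraMap_apply A K L,
      ← IsScalarTower.algebraMap_apply K L Ω]
  -- admissible valuation subrings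
  have hadm : ∀ {M : Type u} [Field M] (jM : L →+* M) (ψ : M →+* Ω),
      (∀ a, ψ (jM (algebraMap A L a)) = algebraMap A Ω a) → (∀ i, ψ (jM (xL i)) = x i) →
      ∀ W' : ValuationSubring Ω, EtRam.Dominates B (jM.comp (algebraMap B L)) (W'.comap ψ) →
        Adm A x W' := by
    intro M _ jM ψ hA hx W' hW
    refine ⟨fun a => ?_, fun a ha => ?_, fun i => ?_, fun P hP => ?_⟩
    · rw [← hA, IsScalarTower.algebraMap_apply A B L]
      exact hW.1 _
    · rw [← hA, IsScalarTower.algebraMap_apply A B L, ← val_comap_lt_one]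
      exact hW.2 _ (map_nonunit (algebraMap A B) a ha)
    · rw [← hx]
      exact hW.1 _
    · have e : MvPolynomial.aeval x P = ψ (jM (algebraMap B L (MvPolynomial.aeval xB P))) := by
        rw [MvPolynomial.aeval_def, MvPolynomial.aeval_def]
        show _ = ((ψ.comp jM).comp (algebraMap B L)) _
        rw [MvPolynomial.eval₂_comp_left]
        congr 1
        · ext a
          simp only [RingHom.comp_apply]
          rw [← IsScalarTower.algebraMap_apply A B L, hA]
        · funext i
          exact (hx i).symm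
      obtain ⟨v, hv⟩ := hunit P hP
      rw [e, ← hv]
      have hle : ∀ b : B, W'.valuation (ψ (jM (algebraMap B L b))) ≤ 1 :=
        fun b => (W'.valuation_le_one_iff _).2 (hW.1 b)
      refine le_antisymm (hle _) ?_
      have h1 : W'.valuation (ψ (jM (algebraMap B L (v : B)))) *
          W'.valuation (ψ (jM (algebraMap B L ((v⁻¹ : Bˣ) : B)))) = 1 := by
        rw [← map_mul, ← map_mul, ← map_mul, ← map_mul, v.mul_inv, map_one, map_one, map_one, map_one]
      calc (1 : W'.ValueGroup) = _ := h1.symm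
        _ ≤ W'.valuation (ψ (jM (algebraMap B L (v : B)))) * 1 := by gcongr; exact hle _
        _ = _ := mul_one _
  have hfrac : ∀ y : L, ∃ a b : B, algebraMap B L b ≠ 0 ∧ y * algebraMap B L b = algebraMap B L a := by
    intro y
    obtain ⟨a, b, hb, rfl⟩ := IsFractionRing.div_surjective (A := B) y
    have hb' : algebraMap B L b ≠ 0 :=
      (map_ne_zero_iff _ (IsFractionRing.injective B L)).2 (nonZeroDivisors.ne_zero hb)
    exact ⟨a, b, hb', div_mul_cancel₀ _ hb'⟩
  obtain ⟨W₀, hW₀c⟩ := EtRam26.exists_comap_eq jL (Ram24.rangeVS (algebraMap B L) hfrac)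
  have hdomB : EtRam.Dominates B ((RingHom.id L).comp (algebraMap B L)) (W₀.comap jL) := by
    rw [hW₀c]
    refine ⟨fun b => ⟨b, rfl⟩, fun b hb => ?_⟩
    refine lt_of_le_of_ne ((ValuationSubring.valuation_le_one_iff _ _).2 ⟨b, rfl⟩) fun h => ?_
    have hb0 : (b : B) ≠ 0 := fun h0 => by
      rw [RingHom.id_comp, h0, map_zero, map_zero] at h
      exact zero_ne_one h
    have hinv : (algebraMap B L b)⁻¹ ∈ Ram24.rangeVS (algebraMap B L) hfrac := by
      rw [← ValuationSubring.valuation_le_one_iff, map_inv₀,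
        show (Ram24.rangeVS (algebraMap B L) hfrac).valuation (algebraMap B L b) = 1 from h, inv_one]
    obtain ⟨c, hc⟩ := hinv
    refine (mem_maximalIdeal b).1 hb (IsUnit.of_mul_eq_one c (IsFractionRing.injective B L ?_))
    rw [map_mul, hc, map_one, mul_inv_cancel₀ ((map_ne_zero_iff _ (IsFractionRing.injective B L)).2 hb0)]
  have hW₀ : Adm A x W₀ := hadm (RingHom.id L) jL (fun _ => rfl) (fun _ => rfl) W₀ hdomB
  -- the polynomial
  set F1 := IntermediateField.adjoin K (Set.range xL)
  have hι : ∀ a : F1, jL a ∈ bas x (bot₀ K Ω) := fun a => by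
    have : (F1.toSubfield.map jL) ≤ bas x (bot₀ K Ω) := by
      rw [Subfield.map_le_iff_le_comap, IntermediateField.adjoin_toSubfield, Subfield.closure_le]
      rintro c (⟨k, rfl⟩ | ⟨i, rfl⟩)
      · exact le_bas x _ ⟨k, rfl⟩
      · exact mem_bas_var x _ i
    exact this ⟨a, a.2, rfl⟩
  let ι : F1 →+* bas x (bot₀ K Ω) := (jL.comp (algebraMap F1 L)).codRestrict _ hι
  let Pb : Polynomial (bas x (bot₀ K Ω)) := ∏ l ∈ lg, (minpoly F1 l).map ι
  have hint : ∀ l ∈ lg, IsIntegral F1 l := fun l hl => (hsep l hl).isIntegral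
  have hPb : Pb ≠ 0 := Finset.prod_ne_zero_iff.2 fun l hl =>
    Polynomial.map_ne_zero (minpoly.ne_zero (hint l hl))
  have hsepP : ∀ r ∈ Pb.rootSet Ω, IsSeparable (bas x (bot₀ K Ω)) r := by
    intro r hr
    have h := (Polynomial.mem_rootSet.1 hr).2
    rw [map_prod, Finset.prod_eq_zero_iff] at h
    obtain ⟨l, hl, h0⟩ := h
    exact Polynomial.Separable.of_dvd (Polynomial.Separable.map (hsep l hl)) (minpoly.dvd _ r h0)
  obtain ⟨T, hTfin, hcore⟩ := exists_core A x hW₀ Pb hsepP
  haveI := hTfin
  refine ⟨T, inferInstance, inferInstance, inferInstance, ?_⟩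
  intro M _ _ _ _ _ _ hadj W hW
  have hgauss : AlgebraicIndependent K xL := by
    have h1 := hW₀.indep_bot (K := K)
    rw [algebraicIndependent_iff]
    intro P hP
    by_contra hP0
    let P' : MvPolynomial σ (bot₀ K Ω) := P.map (algebraMap K Ω).rangeRestrictField
    obtain ⟨c, hc, hc0, hm, R, -, hR, hR0⟩ := gauss W₀ hW₀.var h1 (P := P')
      ((map_ne_zero_iff (MvPolynomial.map _) (MvPolynomial.map_injective _ (RingHom.injective _))).2 hP0)
    refine hR0 (hR.symm.trans ((res_eq_zero W₀ hm).2 ?_))
    have h2 : MvPolynomial.aeval x P' = jL (MvPolynomial.aeval xL P) := by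
      rw [MvPolynomial.aeval_def, MvPolynomial.eval₂_map, MvPolynomial.aeval_def, MvPolynomial.eval₂_comp_left]
      rfl
    rw [h2, hP, map_zero, zero_div, map_zero]
    exact zero_lt_one
  haveI : Algebra.IsAlgebraic K T := inferInstance
  let xM : σ → M := fun i => algebraMap L M (xL i)
  have hindM : AlgebraicIndependent T xM :=
    (hgauss.map' (f := IsScalarTower.toAlgHom K L M) (algebraMap L M).injective).extendScalars T
  have hindΩ : AlgebraicIndependent T x :=
    (hgauss.map' (f := IsScalarTower.toAlgHom K L Ω) jL.injective).extendScalars T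
  set F := IntermediateField.adjoin T (Set.range xM)
  have hK : ∀ k : K, algebraMap L M (algebraMap K L k) = algebraMap T M (algebraMap K T k) := fun k => by
    rw [← IsScalarTower.algebraMap_apply, ← IsScalarTower.algebraMap_apply]
  have hF1 : ∀ a : F1, algebraMap L M a ∈ F := fun a =>
    mem_of_mem_adjoin (s := Set.range xL) (algebraMap L M) F.toSubfield (fun k => hK k ▸ F.algebraMap_mem _)
      (fun c ⟨i, hi⟩ => hi ▸ IntermediateField.subset_adjoin _ _ ⟨i, rfl⟩) a.2
  have halg : ∀ z : M, IsAlgebraic F z := by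
    let Z := algebraicClosure F M
    have hF' : ∀ z ∈ F, z ∈ Z := fun z hz => Z.algebraMap_mem ⟨z, hz⟩
    have hL : ∀ l : L, algebraMap L M l ∈ Z := fun l => by
      refine mem_of_mem_adjoin (algebraMap L M) Z.toSubfield (fun k => hF' _ (hK k ▸ F.algebraMap_mem _)) ?_
        (hgen ▸ IntermediateField.mem_top : l ∈ IntermediateField.adjoin K (Set.range xL ∪ (lg : Set L)))
      rintro c (⟨i, rfl⟩ | hc)
      · exact hF' _ (IntermediateField.subset_adjoin _ _ ⟨i, rfl⟩)
      · refine mem_algebraicClosure_iff.2 ?_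
        obtain ⟨P, hP⟩ := (Polynomial.mem_lifts (f := algebraMap F M) ((minpoly F1 c).map
          ((algebraMap L M).comp (algebraMap F1 L)))).1 ((Polynomial.lifts_iff_coeff_lifts _).2 fun n => by
            rw [Polynomial.coeff_map]; exact ⟨⟨_, hF1 _⟩, rfl⟩)
        refine ⟨P, fun h => ?_, ?_⟩
        · rw [h, Polynomial.map_zero] at hP
          exact Polynomial.map_ne_zero (minpoly.ne_zero (hint c hc)) hP.symm
        · rw [Polynomial.aeval_def, ← Polynomial.eval_map, hP, Polynomial.eval_map,
            ← Polynomial.hom_eval₂, ← Polynomial.aeval_def, minpoly.aeval, map_zero]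
    intro z
    refine mem_algebraicClosure_iff.1 ?_
    have hz : z ∈ Algebra.adjoin L (Set.range (algebraMap T M)) := hadj ▸ Algebra.mem_top
    induction hz using Algebra.adjoin_induction with
    | mem z hz => obtain ⟨t, rfl⟩ := hz; exact hF' _ (F.algebraMap_mem t)
    | algebraMap l => exact hL l
    | add a b _ _ ha hb => exact Z.add_mem ha hb
    | mul a b _ _ ha hb => exact Z.mul_mem ha hb
  obtain ⟨ψ, hψx⟩ := exists_hom_fixing hindM hindΩ halg
  have hψT : ∀ t : T, ψ (algebraMap T M t) = (t : Ω) := fun t => ψ.commutes t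
  have hψK : ∀ k : K, ψ (algebraMap L M (algebraMap K L k)) = algebraMap K Ω k := fun k => by
    rw [hK, hψT]
    rfl
  have hψF : ∀ a : F1, ψ (algebraMap L M a) = jL a := fun a => by
    obtain ⟨a, ha⟩ := a
    show ψ (algebraMap L M a) = jL a
    induction ha using IntermediateField.adjoin_induction with
    | mem c hc => obtain ⟨i, rfl⟩ := hc; exact hψx i
    | algebraMap k => rw [hψK]; exact IsScalarTower.algebraMap_apply K L Ω k
    | add a b _ _ ha hb => simp only [map_add, ha, hb]
    | inv a _ ha => simp only [map_inv₀, ha]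
    | mul a b _ _ ha hb => simp only [map_mul, ha, hb]
  set R := Pb.rootSet Ω
  have hψmem : ∀ z : M, ψ z ∈ top x T.toSubfield R := by
    intro z
    have hTtop : ∀ t : Ω, t ∈ T → t ∈ top x T.toSubfield R := fun t ht =>
      bas_le_top x _ R (le_bas x _ ht)
    have hLtop : ∀ l : L, ψ (algebraMap L M l) ∈ top x T.toSubfield R := fun l => by
      refine mem_of_mem_adjoin (ψ.toRingHom.comp (algebraMap L M)) _
        (fun k => (hψK k).symm ▸ hTtop _ (T.algebraMap_mem k)) ?_
        (hgen ▸ IntermediateField.mem_top : l ∈ IntermediateField.adjoin K (Set.range xL ∪ (lg : Set L)))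
      rintro c (⟨i, rfl⟩ | hc)
      · exact (hψx i).symm ▸ bas_le_top x _ R (mem_bas_var x _ i)
      · refine subset_top x _ R (Polynomial.mem_rootSet.2 ⟨hPb, ?_⟩)
        rw [map_prod]
        refine Finset.prod_eq_zero hc ?_
        rw [Polynomial.aeval_def, Polynomial.eval₂_map,
          show (algebraMap (bas x (bot₀ K Ω)) Ω).comp ι =
            (ψ.toRingHom.comp (algebraMap L M)).comp (algebraMap F1 L) from
            RingHom.ext fun a => (hψF a).symm, ← Polynomial.hom_eval₂, ← Polynomial.aeval_def,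
          minpoly.aeval, map_zero]
    have hz : z ∈ Algebra.adjoin L (Set.range (algebraMap T M)) := hadj ▸ Algebra.mem_top
    induction hz using Algebra.adjoin_induction with
    | mem z hz => obtain ⟨t, rfl⟩ := hz; exact hψT t ▸ hTtop _ t.2
    | algebraMap l => exact hLtop l
    | add a b _ _ ha hb => rw [map_add]; exact add_mem ha hb
    | mul a b _ _ ha hb => rw [map_mul]; exact mul_mem ha hb
  obtain ⟨W', rfl⟩ := EtRam26.exists_comap_eq ψ.toRingHom W
  have hWadm : Adm A x W' := hadm (algebraMap L M) ψ.toRingHom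
    (fun a => by
      rw [IsScalarTower.algebraMap_apply A K L, IsScalarTower.algebraMap_apply A K Ω]
      exact hψK _) hψx W' hW
  obtain ⟨ρ, hρT, hρ0, hρ, hdiv, Kp, hac, hTKp, hdis⟩ := hcore W' hWadm
  haveI := hac
  have hrange : (ψ.toRingHom.comp (algebraMap T M)).fieldRange = T.toSubfield := by
    ext a
    exact ⟨fun ⟨t, ht⟩ => ht ▸ (hψT t).symm ▸ t.2, fun ha => ⟨⟨a, ha⟩, hψT _⟩⟩
  have hρ' : ψ.toRingHom (algebraMap T M ⟨ρ, hρT⟩) = ρ := hψT _
  exact solution_at (algebraMap T M) ψ.toRingHom W' (fun t => hTKp ((hψT t).symm ▸ t.2)) hψmem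
    (ρ := ⟨ρ, hρT⟩) (fun h => hρ0 (congrArg Subtype.val h)) (by rw [hρ']; exact hρ)
    (by rw [hρ']; exact hdiv) (hrange ▸ hdis)

end Groth.Agent.Sol23
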