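import Mathlib.RingTheory.ZariskisMainTheorem
import Mathlib.RingTheory.AlgebraicIndependent.TranscendenceBasis
import Mathlib.FieldTheory.IntermediateField.Adjoin.Algebra
import Mathlib.RingTheory.DiscreteValuationRing.Basic
import Mathlib.RingTheory.EssentialFiniteness

/-!
# Lifts of a transcendence basis of the residue field

For an essentially finite type extension of discrete valuation rings the fraction field is finite over
the rational functions in lifts of a transcendence basis of the residue field: the local ring is
quasi-finite over the polynomial ring, by Zariski's main theorem.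
-/

set_option autoImplicit false
set_option linter.unusedSectionVars false
set_option linter.style.haveILetI false

universe u

open IsLocalRing

namespace Groth.Agent.Sol23

/-- An algebra over a field `k`, quotient of a DVR by a nonzero ideal, with finite residue extension is finite. -/
theorem finite_quotient {B k : Type u} [CommRing B] [IsDomain B] [IsDiscreteValuationRing B] [Field k]
    (I : Ideal B) (hI : I ≠ ⊥) (hIm : I ≤ maximalIdeal B) [Algebra k (B ⧸ I)]
    [Algebra k (ResidueField B)]
    (hcomp : ∀ c : k, Ideal.Quotient.factor hIm (algebraMap k (B ⧸ I) c) = algebraMap k (ResidueField B) c)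
    [Module.Finite k (ResidueField B)] : Module.Finite k (B ⧸ I) := by
  classical
  obtain ⟨ϖ, hϖ⟩ := IsDiscreteValuationRing.exists_irreducible B
  obtain ⟨e, he⟩ := IsDiscreteValuationRing.ideal_eq_span_pow_irreducible hI hϖ
  let bk := Module.finBasis k (ResidueField B)
  choose g hg using fun i => residue_surjective (bk i)
  let gen : Fin e × Fin (Module.finrank k (ResidueField B)) → B ⧸ I := fun p =>
    Ideal.Quotient.mk I (ϖ ^ (p.1 : ℕ) * g p.2)
  let S : Submodule k (B ⧸ I) := Submodule.span k (Set.range gen)
  have key : ∀ n : ℕ, ∀ j : ℕ, e ≤ j + n → ∀ y : B, Ideal.Quotient.mk I (ϖ ^ j * y) ∈ S := by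
    intro n
    induction n with
    | zero =>
      intro j hj y
      rw [Ideal.Quotient.eq_zero_iff_mem.2 (he ▸ Ideal.mem_span_singleton.2
        ((pow_dvd_pow ϖ (by simpa using hj)).trans (dvd_mul_right _ y)))]
      exact S.zero_mem
    | succ n ih =>
      intro j hj y
      by_cases hje : e ≤ j
      · rw [Ideal.Quotient.eq_zero_iff_mem.2 (he ▸ Ideal.mem_span_singleton.2
          ((pow_dvd_pow ϖ hje).trans (dvd_mul_right _ y)))]
        exact S.zero_mem
      choose c hc using fun i => Ideal.Quotient.mk_surjective (algebraMap k (B ⧸ I) (bk.repr (residue B y) i))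
      have hy : y - ∑ i, c i * g i ∈ maximalIdeal B := by
        rw [← residue_eq_zero_iff, map_sub, map_sum, sub_eq_zero]
        conv_lhs => rw [← bk.sum_repr (residue B y)]
        refine Finset.sum_congr rfl fun i _ => ?_
        rw [map_mul, hg, Algebra.smul_def, ← hcomp, ← hc]
        rfl
      rw [(IsDiscreteValuationRing.irreducible_iff_uniformizer ϖ).1 hϖ, Ideal.mem_span_singleton'] at hy
      obtain ⟨y', hy'⟩ := hy
      rw [show ϖ ^ j * y = (∑ i, c i * (ϖ ^ j * g i)) + ϖ ^ (j + 1) * y' from by
        rw [pow_succ, mul_assoc, mul_comm ϖ y', hy', mul_sub, Finset.mul_sum]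
        simp only [mul_left_comm]
        ring, map_add, map_sum]
      refine S.add_mem (S.sum_mem fun i _ => ?_) (ih (j + 1) (by omega) y')
      rw [map_mul, hc, ← Algebra.smul_def]
      exact S.smul_mem _ (Submodule.subset_span ⟨(⟨j, not_le.1 hje⟩, i), rfl⟩)
  refine ⟨⟨Finset.univ.image gen, ?_⟩⟩
  rw [Finset.coe_image, Finset.coe_univ, Set.image_univ, eq_top_iff]
  intro z _
  obtain ⟨y, rfl⟩ := Ideal.Quotient.mk_surjective z
  simpa using key e 0 (by simp) y

theorem exists_transcendence_lifts (A B K L : Type u) [CommRing A] [IsDomain A] [IsDiscreteValuationRing A]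
    [CommRing B] [IsDomain B] [IsDiscreteValuationRing B] [Algebra A B] [IsLocalHom (algebraMap A B)]
    (hinj : Function.Injective (algebraMap A B))
    [Field K] [Field L] [Algebra A K] [IsFractionRing A K] [Algebra B L] [IsFractionRing B L]
    [Algebra K L] [Algebra A L] [IsScalarTower A K L] [IsScalarTower A B L] [Algebra.EssFiniteType A B] :
    ∃ (σ : Type u) (_ : Finite σ) (xB : σ → B),
      (∀ P : MvPolynomial σ A, (∃ m, IsUnit (P.coeff m)) → IsUnit (MvPolynomial.aeval xB P)) ∧
      FiniteDimensional (IntermediateField.adjoin K (Set.range fun i => algebraMap B L (xB i))) L := by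
  classical
  let k₀ := ResidueField A
  let κ := ResidueField B
  set s := Algebra.EssFiniteType.finset A B
  let sb : Set κ := residue B '' (s : Set B)
  haveI hfrac : Algebra.IsAlgebraic (Algebra.adjoin k₀ sb) κ := by
    refine ⟨fun r => ?_⟩
    obtain ⟨b, rfl⟩ := residue_surjective r
    obtain ⟨⟨a, t⟩, hat⟩ := IsLocalization.surj (Algebra.EssFiniteType.submonoid A B) b
    have hmem : ∀ c : Algebra.EssFiniteType.subalgebra A B, residue B (c : B) ∈ Algebra.adjoin k₀ sb := by
      rintro ⟨c, hc⟩
      induction hc using Algebra.adjoin_induction with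
      | mem c hc => exact Algebra.subset_adjoin ⟨c, hc, rfl⟩
      | algebraMap a => exact (Algebra.adjoin k₀ sb).algebraMap_mem (residue A a)
      | add c d _ _ hc hd => rw [map_add]; exact add_mem hc hd
      | mul c d _ _ hc hd => rw [map_mul]; exact mul_mem hc hd
    have ht : residue B ((t : Algebra.EssFiniteType.subalgebra A B) : B) ≠ 0 :=
      fun h => (mem_maximalIdeal _).1 ((residue_eq_zero_iff _).1 h) t.2
    have e : residue B b = residue B (a : B) * (residue B ((t : Algebra.EssFiniteType.subalgebra A B) : B))⁻¹ := by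
      rw [eq_mul_inv_iff_mul_eq₀ ht, ← map_mul]
      exact congrArg _ hat
    rw [e]
    exact (isAlgebraic_algebraMap (⟨_, hmem a⟩ : Algebra.adjoin k₀ sb)).mul
      (IsAlgebraic.inv (isAlgebraic_algebraMap (⟨_, hmem t.1⟩ : Algebra.adjoin k₀ sb)))
  obtain ⟨τ, hτs, hτ⟩ := exists_isTranscendenceBasis_subset (R := k₀) sb
  have hτfin : τ.Finite := (s.finite_toSet.image _).subset hτs
  haveI : Finite τ := hτfin.to_subtype
  choose xB hxB using fun i : τ => residue_surjective (i : κ)
  have hev : ∀ P : MvPolynomial τ A, residue B (MvPolynomial.aeval xB P) =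
      MvPolynomial.aeval (fun i : τ => (i : κ)) (P.map (residue A)) := by
    intro P
    rw [MvPolynomial.aeval_def, MvPolynomial.eval₂_comp_left, MvPolynomial.aeval_def, MvPolynomial.eval₂_map]
    congr 1
    funext i
    exact hxB i
  have hunit : ∀ P : MvPolynomial τ A, (∃ m, IsUnit (P.coeff m)) → IsUnit (MvPolynomial.aeval xB P) := by
    rintro P ⟨m, hm⟩
    refine residue_ne_zero_iff_isUnit _ |>.1 fun h => ?_
    rw [hev] at h
    have := congrArg (MvPolynomial.coeff m) (hτ.1.eq_zero_of_aeval_eq_zero _ h)
    rw [MvPolynomial.coeff_map, MvPolynomial.coeff_zero] at this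
    exact (hm.map (residue A)).ne_zero this
  refine ⟨τ, inferInstance, xB, hunit, ?_⟩
  let P := MvPolynomial τ A
  letI : Algebra P B := (MvPolynomial.aeval (R := A) xB).toRingHom.toAlgebra
  haveI : IsScalarTower A P B := .of_algebraMap_eq fun a => (MvPolynomial.aeval_C xB a).symm
  haveI : Algebra.EssFiniteType P B := Algebra.EssFiniteType.of_comp A P B
  let S₁ := Algebra.EssFiniteType.subalgebra P B
  let q : Ideal S₁ := (maximalIdeal B).comap S₁.val.toRingHom
  haveI : q.IsPrime := Ideal.comap_isPrime _ _
  haveI : IsLocalization q.primeCompl B := by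
    have e : Algebra.EssFiniteType.submonoid P B = q.primeCompl := by
      ext c
      show IsUnit (c : B) ↔ ¬ ((c : B) ∈ maximalIdeal B)
      rw [mem_maximalIdeal, mem_nonunits_iff, not_not]
    exact e ▸ Algebra.EssFiniteType.isLocalization P B
  let p : Ideal P := q.under P
  have hp : ∀ c : P, c ∈ p ↔ algebraMap P B c ∈ maximalIdeal B := fun c => Iff.rfl
  obtain ⟨π, hπ⟩ := IsDiscreteValuationRing.exists_irreducible A
  let I : Ideal B := p.map (algebraMap P B)
  have hIm : I ≤ maximalIdeal B := Ideal.map_le_iff_le_comap.2 fun c hc => (hp c).1 hc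
  have hI : I ≠ ⊥ := fun h => by
    have h1 : algebraMap P B (MvPolynomial.C π) ∈ I := by
      refine Ideal.mem_map_of_mem _ ((hp _).2 ?_)
      rw [← MvPolynomial.algebraMap_eq, ← IsScalarTower.algebraMap_apply]
      exact map_nonunit _ _ ((mem_maximalIdeal π).2 hπ.not_isUnit)
    rw [h, Submodule.mem_bot, ← MvPolynomial.algebraMap_eq, ← IsScalarTower.algebraMap_apply] at h1
    exact hπ.ne_zero (hinj (h1.trans (map_zero _).symm))
  have hu : p.primeCompl ≤ (IsUnit.submonoid (B ⧸ I)).comap (algebraMap P (B ⧸ I)) := fun c hc => by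
    have : IsUnit (algebraMap P B c) := notMem_maximalIdeal.1 fun h => hc ((hp c).2 h)
    exact this.map (Ideal.Quotient.mk I)
  have hk : p ≤ RingHom.ker (algebraMap P (B ⧸ I)) := fun c hc =>
    Ideal.Quotient.eq_zero_iff_mem.2 (Ideal.mem_map_of_mem _ hc)
  letI : Algebra p.ResidueField (B ⧸ I) := (Ideal.ResidueField.lift p _ hk hu).toAlgebra
  letI : Algebra p.ResidueField κ :=
    ((Ideal.Quotient.factor hIm).comp (algebraMap p.ResidueField (B ⧸ I))).toAlgebra
  have hPk : ∀ c : P, algebraMap p.ResidueField (B ⧸ I) (algebraMap P p.ResidueField c) =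
      algebraMap P (B ⧸ I) c := fun c => by
    show Ideal.ResidueField.lift p _ hk hu (algebraMap P p.ResidueField c) = _
    simp
  haveI : IsScalarTower P p.ResidueField (B ⧸ I) := .of_algebraMap_eq fun c => (hPk c).symm
  have hPκ : ∀ c : P, algebraMap p.ResidueField κ (algebraMap P p.ResidueField c) =
      residue B (algebraMap P B c) := fun c => by
    show Ideal.Quotient.factor hIm (algebraMap p.ResidueField (B ⧸ I) (algebraMap P p.ResidueField c)) = _
    rw [hPk]
    rfl
  let Rg : Subfield κ := (algebraMap p.ResidueField κ).fieldRange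
  have hRg : Algebra.adjoin k₀ (τ : Set κ) ≤ (Subalgebra.mk Rg.toSubsemiring fun a => by
      obtain ⟨a, rfl⟩ := residue_surjective a
      exact ⟨algebraMap P p.ResidueField (MvPolynomial.C a), by
        rw [hPκ, ← MvPolynomial.algebraMap_eq, ← IsScalarTower.algebraMap_apply]; rfl⟩) := by
    refine Algebra.adjoin_le fun c hc => ?_
    exact ⟨algebraMap P p.ResidueField (MvPolynomial.X ⟨c, hc⟩), by
      rw [hPκ]
      show residue B (MvPolynomial.aeval xB (MvPolynomial.X _)) = c
      rw [MvPolynomial.aeval_X]
      exact hxB ⟨c, hc⟩⟩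
  haveI : Algebra.IsAlgebraic p.ResidueField κ := by
    refine ⟨fun r => ?_⟩
    have h1 : IsAlgebraic (Algebra.adjoin k₀ (τ : Set κ)) r := by
      have := hτ.isAlgebraic
      rw [Subtype.range_coe] at this
      exact Algebra.IsAlgebraic.isAlgebraic r
    obtain ⟨F, hF0, hF⟩ := h1
    obtain ⟨G, hG⟩ := (Polynomial.mem_lifts (f := algebraMap p.ResidueField κ)
      (F.map (algebraMap (Algebra.adjoin k₀ (τ : Set κ)) κ))).1 ((Polynomial.lifts_iff_coeff_lifts _).2
        fun n => by rw [Polynomial.coeff_map]; exact hRg (F.coeff n).2)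
    refine ⟨G, fun h => ?_, ?_⟩
    · rw [h, Polynomial.map_zero] at hG
      exact (Polynomial.map_ne_zero_iff Subtype.val_injective).2 hF0 hG.symm
    · rw [← Polynomial.aeval_map_algebraMap κ, hG, Polynomial.aeval_map_algebraMap, hF]
  haveI : FiniteDimensional p.ResidueField κ := by
    haveI : FiniteDimensional p.ResidueField (IntermediateField.adjoin p.ResidueField sb) := by
      haveI : Finite sb := (s.finite_toSet.image _).to_subtype
      exact IntermediateField.finiteDimensional_adjoin fun r _ => (Algebra.IsAlgebraic.isAlgebraic r).isIntegral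
    have htop : IntermediateField.adjoin p.ResidueField sb = ⊤ := by
      refine eq_top_iff.2 fun r _ => ?_
      obtain ⟨b, rfl⟩ := residue_surjective r
      obtain ⟨⟨a, t⟩, hat⟩ := IsLocalization.surj (Algebra.EssFiniteType.submonoid A B) b
      have hmem : ∀ c : Algebra.EssFiniteType.subalgebra A B,
          residue B (c : B) ∈ IntermediateField.adjoin p.ResidueField sb := by
        rintro ⟨c, hc⟩
        induction hc using Algebra.adjoin_induction with
        | mem c hc => exact IntermediateField.subset_adjoin _ _ ⟨c, hc, rfl⟩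
        | algebraMap a =>
          obtain ⟨w, hw⟩ := hRg (Subalgebra.algebraMap_mem _ (residue A a))
          exact (show algebraMap p.ResidueField κ w = residue B (algebraMap A B a) from hw) ▸
            IntermediateField.algebraMap_mem _ w
        | add c d _ _ hc hd => rw [map_add]; exact add_mem hc hd
        | mul c d _ _ hc hd => rw [map_mul]; exact mul_mem hc hd
      have ht : residue B ((t : Algebra.EssFiniteType.subalgebra A B) : B) ≠ 0 :=
        fun h => (mem_maximalIdeal _).1 ((residue_eq_zero_iff _).1 h) t.2
      rw [show residue B b = residue B (a : B) / residue B ((t : Algebra.EssFiniteType.subalgebra A B) : B) by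
        rw [eq_div_iff ht, ← map_mul]; exact congrArg _ hat]
      exact div_mem (hmem a) (hmem t.1)
    exact Module.Finite.equiv ((IntermediateField.equivOfEq htop).trans IntermediateField.topEquiv).toLinearEquiv
  haveI : Module.Finite p.ResidueField (B ⧸ I) := finite_quotient I hI hIm fun _ => rfl
  haveI : Algebra.QuasiFinite P (B ⧸ I) := Algebra.QuasiFinite.trans P p.ResidueField (B ⧸ I)
  let e : B ≃ₐ[P] Localization.AtPrime q :=
    (IsLocalization.algEquiv q.primeCompl B (Localization.AtPrime q)).restrictScalars P
  haveI : Algebra.WeaklyQuasiFiniteAt P q := by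
    rw [Algebra.weaklyQuasiFiniteAt_iff]
    refine (Algebra.QuasiFinite.iff_of_algEquiv (Ideal.quotientEquivAlg I _ e ?_)).1 inferInstance
    show _ = Ideal.map e (p.map (algebraMap P B))
    rw [← Ideal.map_coe e, Ideal.map_map]
    congr 1
    exact RingHom.ext fun c => (e.commutes c).symm
  haveI := Algebra.QuasiFiniteAt.of_weaklyQuasiFiniteAt (R := P) q
  haveI : Algebra.QuasiFinite P B := Algebra.QuasiFinite.of_surjective_algHom (R := P) (S := Localization.AtPrime q) (T := B) e.symm.toAlgHom e.symm.surjective
  letI : Algebra P L := ((algebraMap B L).comp (algebraMap P B)).toAlgebra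
  haveI : IsScalarTower P B L := .of_algebraMap_eq fun _ => rfl
  haveI : Algebra.QuasiFinite P L := Algebra.QuasiFinite.of_isLocalization (nonZeroDivisors B)
  set F := IntermediateField.adjoin K (Set.range fun i => algebraMap B L (xB i))
  have hmemF : ∀ c : P, algebraMap P L c ∈ F := fun c => by
    show algebraMap B L (MvPolynomial.aeval xB c) ∈ F
    induction c using MvPolynomial.induction_on with
    | C a =>
      rw [MvPolynomial.aeval_C, ← IsScalarTower.algebraMap_apply A B L, IsScalarTower.algebraMap_apply A K L]
      exact F.algebraMap_mem _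
    | add c d hc hd => rw [map_add, map_add]; exact add_mem hc hd
    | mul_X c i hc =>
      rw [map_mul, map_mul, MvPolynomial.aeval_X]
      exact mul_mem hc (IntermediateField.subset_adjoin _ _ ⟨i, rfl⟩)
  letI : Algebra P F := ((algebraMap P L).codRestrict F hmemF).toAlgebra
  haveI : IsScalarTower P F L := .of_algebraMap_eq fun _ => rfl
  haveI : Algebra.QuasiFinite F L := Algebra.QuasiFinite.of_restrictScalars P F L
  exact Module.Finite.of_quasiFinite

end Groth.Agent.Sol23
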