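import Mathlib.FieldTheory.PurelyInseparable.Basic
import Groth.Agent.EtAlg23.SolutionTower
import Groth.Agent.Ram24.SmoothBase
import Groth.Agent.Sol23.Transc
import Groth.Agent.Sol23.Solve

/-!
# Removing inseparability
-/

set_option autoImplicit false
set_option linter.unusedSectionVars false
set_option linter.style.haveILetI false

universe u

open IsLocalRing

namespace Groth.Agent.Sol23

/-- A solution for an inseparable modification gives one for the original extension. -/
theorem solution_transfer (B K L K₀ L₁ : Type u) [CommRing B] [IsDomain B] [IsDiscreteValuationRing B]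
    [Field K] [Field L] [Field K₀] [Field L₁] [Algebra B L] [IsFractionRing B L] [Algebra K L]
    [Algebra K K₀] [FiniteDimensional K K₀] [Algebra L L₁] [FiniteDimensional L L₁] [Algebra K₀ L₁]
    [Algebra K L₁] [IsScalarTower K L L₁] [IsScalarTower K K₀ L₁] (q n : ℕ) [ExpChar K q]
    (hK₀ : ∀ c : K₀, ∃ k : K, algebraMap K K₀ k = c ^ q ^ n)
    (B₁ : ValuationSubring L₁) [IsDiscreteValuationRing B₁]
    (hB₁ : ∀ z ∈ B₁, ∃ b : B, algebraMap L L₁ (algebraMap B L b) = z ^ q ^ n)
    (hB₁m : ∀ z, ∀ b : B, algebraMap L L₁ (algebraMap B L b) = z ^ q ^ n → B₁.valuation z < 1 →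
      b ∈ maximalIdeal B)
    (K₁ : Type u) [Field K₁] [Algebra K₀ K₁] [FiniteDimensional K₀ K₁]
    (h : EtRam.IsSolution B₁ K₀ L₁ K₁) :
    ∃ (K₁ : Type u) (_ : Field K₁) (_ : Algebra K K₁) (_ : FiniteDimensional K K₁),
      EtRam.IsSolution B K L K₁ := by
  classical
  letI : Algebra K K₁ := ((algebraMap K₀ K₁).comp (algebraMap K K₀)).toAlgebra
  haveI : IsScalarTower K K₀ K₁ := .of_algebraMap_eq fun _ => rfl
  haveI : FiniteDimensional K K₁ := FiniteDimensional.trans K K₀ K₁
  refine ⟨K₁, inferInstance, inferInstance, inferInstance, ?_⟩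
  intro M _ _ _ _ _ _ hadj W hW
  haveI := Ram24.finiteDimensional_of_adjoin_eq_top (K := K) (L := L) (K₁ := K₁) (M := M) hadj
  haveI : IsDiscreteValuationRing W := Ram24.dvr_of_dominates (B := B) (L := L) W hW
  let Ω := AlgebraicClosure M
  haveI : Algebra.IsAlgebraic L L₁ := inferInstance
  let hh : L₁ →ₐ[L] Ω := IsAlgClosed.lift
  let g₁ : K₁ →+* Ω := (algebraMap M Ω).comp (algebraMap K₁ M)
  haveI : ExpChar Ω q := expChar_of_injective_ringHom (algebraMap K Ω).injective q
  have hq : q ^ n ≠ 0 := pow_ne_zero _ (expChar_ne_zero K q)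
  have hfix : ∀ k : K, hh (algebraMap K₀ L₁ (algebraMap K K₀ k)) = algebraMap K Ω k := fun k => by
    rw [← IsScalarTower.algebraMap_apply, IsScalarTower.algebraMap_apply K L L₁, hh.commutes,
      IsScalarTower.algebraMap_apply K M Ω, IsScalarTower.algebraMap_apply K L M,
      ← IsScalarTower.algebraMap_apply L M Ω]
  have hagree : ∀ c : K₀, hh (algebraMap K₀ L₁ c) = g₁ (algebraMap K₀ K₁ c) := by
    intro c
    obtain ⟨k, hk⟩ := hK₀ c
    refine iterateFrobenius_inj Ω q n ?_
    rw [iterateFrobenius_def, iterateFrobenius_def, ← map_pow, ← map_pow, ← hk, hfix, ← map_pow, ← map_pow,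
      ← hk]
    show _ = algebraMap M Ω (algebraMap K₁ M (algebraMap K₀ K₁ (algebraMap K K₀ k)))
    rw [← IsScalarTower.algebraMap_apply K K₀ K₁, ← IsScalarTower.algebraMap_apply K K₁ M,
      ← IsScalarTower.algebraMap_apply K M Ω]
  letI : Algebra L₁ Ω := hh.toRingHom.toAlgebra
  haveI : IsScalarTower L L₁ Ω := .of_algebraMap_eq fun l => (hh.commutes l).symm
  have hint : ∀ a ∈ Set.range g₁, IsIntegral L₁ a := by
    rintro _ ⟨k, rfl⟩
    exact (((IsIntegral.of_finite L (algebraMap K₁ M k)).map (IsScalarTower.toAlgHom L M Ω))).tower_top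
  let M' : IntermediateField L₁ Ω := IntermediateField.adjoin L₁ (Set.range g₁)
  have hM' : M'.toSubalgebra = Algebra.adjoin L₁ (Set.range g₁) :=
    IntermediateField.adjoin_toSubalgebra_of_isAlgebraic fun a ha => (hint a ha).isAlgebraic
  have hjM : ∀ z : M, algebraMap M Ω z ∈ M' := by
    intro z
    have hz : z ∈ Algebra.adjoin L (Set.range (algebraMap K₁ M)) := hadj ▸ Algebra.mem_top
    induction hz using Algebra.adjoin_induction with
    | mem z hz => obtain ⟨k, rfl⟩ := hz; exact IntermediateField.subset_adjoin _ _ ⟨k, rfl⟩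
    | algebraMap l =>
      rw [← IsScalarTower.algebraMap_apply L M Ω, IsScalarTower.algebraMap_apply L L₁ Ω]
      exact M'.algebraMap_mem _
    | add a b _ _ ha hb => rw [map_add]; exact add_mem ha hb
    | mul a b _ _ ha hb => rw [map_mul]; exact mul_mem ha hb
  let j : M →+* M' := (algebraMap M Ω).codRestrict M' hjM
  letI : Algebra K₁ M' := (j.comp (algebraMap K₁ M)).toAlgebra
  letI : Algebra K₀ M' := ((algebraMap L₁ M').comp (algebraMap K₀ L₁)).toAlgebra
  haveI : IsScalarTower K₀ L₁ M' := .of_algebraMap_eq fun _ => rfl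
  haveI : IsScalarTower K₀ K₁ M' := .of_algebraMap_eq fun c => Subtype.ext (hagree c)
  have hadj' : Algebra.adjoin L₁ (Set.range (algebraMap K₁ M')) = ⊤ := by
    rw [eq_top_iff]
    rintro ⟨z, hz⟩ -
    have hz' : z ∈ Algebra.adjoin L₁ (Set.range g₁) := hM' ▸ hz
    suffices h : ∃ h' : z ∈ M', (⟨z, h'⟩ : M') ∈ Algebra.adjoin L₁ (Set.range (algebraMap K₁ M')) from h.2
    clear hz
    induction hz' using Algebra.adjoin_induction with
    | mem z hz =>
      obtain ⟨k, rfl⟩ := hz
      exact ⟨hjM _, Algebra.subset_adjoin ⟨k, rfl⟩⟩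
    | algebraMap l => exact ⟨M'.algebraMap_mem l, Subalgebra.algebraMap_mem _ l⟩
    | add a b _ _ ha hb => exact ⟨add_mem ha.1 hb.1, Subalgebra.add_mem _ ha.2 hb.2⟩
    | mul a b _ _ ha hb => exact ⟨mul_mem ha.1 hb.1, Subalgebra.mul_mem _ ha.2 hb.2⟩
  haveI : FiniteDimensional L₁ M' :=
    Ram24.finiteDimensional_of_adjoin_eq_top (K := K₀) (L := L₁) (K₁ := K₁) (M := M') hadj'
  obtain ⟨W', rfl⟩ := EtRam26.exists_comap_eq j W
  have hbase : ∀ b : B, algebraMap L₁ M' (algebraMap L L₁ (algebraMap B L b)) =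
      j (algebraMap L M (algebraMap B L b)) := fun b => Subtype.ext (by
    show algebraMap L₁ Ω _ = algebraMap M Ω _
    rw [← IsScalarTower.algebraMap_apply L L₁ Ω, ← IsScalarTower.algebraMap_apply L M Ω])
  have hdom : EtRam.Dominates B₁ ((algebraMap L₁ M').comp (algebraMap B₁ L₁)) W' := by
    refine ⟨fun z => ?_, fun z hz => ?_⟩
    · obtain ⟨b, hb⟩ := hB₁ _ z.2
      rw [← W'.valuation_le_one_iff, ← pow_le_one_iff hq, ← map_pow, RingHom.comp_apply, ← map_pow,
        W'.valuation_le_one_iff]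
      show algebraMap L₁ M' ((z : L₁) ^ q ^ n) ∈ W'
      rw [← hb, hbase]
      exact hW.1 b
    · obtain ⟨b, hb⟩ := hB₁ _ z.2
      have hbm := hB₁m _ b hb ((B₁.valuation_lt_one_iff z).1 hz)
      rw [← pow_lt_one_iff hq, ← map_pow, RingHom.comp_apply, ← map_pow]
      show W'.valuation (algebraMap L₁ M' ((z : L₁) ^ q ^ n)) < 1
      rw [← hb, hbase, ← val_comap_lt_one]
      exact hW.2 b hbm
  haveI : IsDiscreteValuationRing W' := Ram24.dvr_of_dominates (B := B₁) (L := L₁) W' hdom
  obtain ⟨hweak, hgr⟩ := h M' hadj' W' hdom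
  exact ⟨EtAlg23.SolutionTower.weaklyUnramified_descends (algebraMap K₁ M) j W' hweak,
    EtAlg23.SolutionTower.isGeometricallyReduced_descends (algebraMap K₁ M) j W' hgr⟩

end Groth.Agent.Sol23
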