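import Mathlib.FieldTheory.SeparableClosure
import Groth.Agent.Sol23.Reduce

/-!
# Solutions for essentially finite type extensions
-/

set_option autoImplicit false
set_option linter.unusedSectionVars false
set_option linter.style.haveILetI false

universe u

open IsLocalRing

namespace Groth.Agent.Sol23

/-- A uniform exponent making finitely many elements separable. -/
theorem exists_exponent {F L : Type u} [Field F] [Field L] [Algebra F L] [FiniteDimensional F L]
    (q : ℕ) [ExpChar F q] (G : Finset L) : ∃ n : ℕ, ∀ l ∈ G, IsSeparable F (l ^ q ^ n) := by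
  choose e he using fun l : L => IsPurelyInseparable.pow_mem (separableClosure F L) q l
  refine ⟨G.sup e, fun l hl => ?_⟩
  obtain ⟨y, hy⟩ := he l
  obtain ⟨t, ht⟩ := Nat.exists_eq_add_of_le (Finset.le_sup (f := e) hl)
  rw [ht, pow_add, pow_mul, ← hy]
  exact mem_separableClosure_iff.1 (pow_mem y.2 _)

set_option maxHeartbeats 1000000 in
theorem solution_essFiniteType (A B K L : Type u) [CommRing A] [IsDomain A] [IsDiscreteValuationRing A]
    [CommRing B] [IsDomain B] [IsDiscreteValuationRing B] [Algebra A B] [IsLocalHom (algebraMap A B)]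
    (hinj : Function.Injective (algebraMap A B))
    [Field K] [Field L] [Algebra A K] [IsFractionRing A K] [Algebra B L] [IsFractionRing B L]
    [Algebra K L] [Algebra A L] [IsScalarTower A K L] [IsScalarTower A B L] [Algebra.EssFiniteType A B] :
    ∃ (K₁ : Type u) (_ : Field K₁) (_ : Algebra K K₁) (_ : FiniteDimensional K K₁),
      EtRam.IsSolution B K L K₁ := by
  classical
  obtain ⟨σ, hσ, xB, hunit, hfinL⟩ := exists_transcendence_lifts A B K L hinj
  haveI := hσ
  haveI := hfinL
  set xL : σ → L := fun i => algebraMap B L (xB i)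
  set F := IntermediateField.adjoin K (Set.range xL)
  set q := ringExpChar K
  haveI : ExpChar K q := inferInstance
  haveI : ExpChar F q := expChar_of_injective_ringHom (algebraMap K F).injective q
  let G : Finset L := Finset.univ.image (Module.finBasis F L)
  obtain ⟨n, hn⟩ := exists_exponent (F := F) q G
  let Ω := AlgebraicClosure L
  haveI : ExpChar Ω q := expChar_of_injective_ringHom ((algebraMap L Ω).comp (algebraMap K L)).injective q
  have hq : q ^ n ≠ 0 := pow_ne_zero _ (expChar_ne_zero K q)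
  -- coefficients
  let P : L → Polynomial F := fun l => minpoly F (l ^ q ^ n)
  have hcl : ∀ d : F, ∃ C : Finset L, ↑C ⊆ Set.range (algebraMap K L) ∧
      (d : L) ∈ Subfield.closure ((C : Set L) ∪ Set.range xL) := fun d => by
    refine exists_finset_closure _ _ ?_
    have h := (show (d : L) ∈ (IntermediateField.adjoin K (Set.range xL)).toSubfield from d.2)
    rwa [IntermediateField.adjoin_toSubfield] at h
  choose C hC hC' using hcl
  let Cs : Finset L := G.biUnion fun l => (P l).support.biUnion fun i => C ((P l).coeff i)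
  have hroot : ∀ c : L, ∃ r : Ω, r ^ q ^ n = algebraMap L Ω c := fun c =>
    IsAlgClosed.exists_pow_nat_eq _ (Nat.pos_of_ne_zero hq)
  choose rt hrt using hroot
  let K₀ : IntermediateField K Ω := IntermediateField.adjoin K (rt '' (Cs : Set L))
  let S : Set Ω := Set.range (fun i => rt (xL i)) ∪ rt '' (Cs : Set L) ∪ algebraMap L Ω '' (G : Set L)
  let L₁ : IntermediateField L Ω := IntermediateField.adjoin L S
  have hrint : ∀ c, IsIntegral L (rt c) := fun c => Algebra.IsIntegral.isIntegral _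
  haveI : FiniteDimensional K K₀ := by
    haveI : Finite (rt '' (Cs : Set L)) := (Cs.finite_toSet.image _).to_subtype
    refine IntermediateField.finiteDimensional_adjoin fun r hr => ?_
    obtain ⟨c, hc, rfl⟩ := hr
    obtain ⟨k, hk⟩ : c ∈ Set.range (algebraMap K L) := by
      obtain ⟨l, -, hl⟩ := Finset.mem_biUnion.1 hc
      obtain ⟨i, -, hi⟩ := Finset.mem_biUnion.1 hl
      exact hC _ hi
    refine IsIntegral.of_pow (Nat.pos_of_ne_zero hq) ?_
    rw [hrt, ← hk, ← IsScalarTower.algebraMap_apply]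
    exact isIntegral_algebraMap
  haveI : FiniteDimensional L L₁ := by
    haveI : Finite S := ((Set.finite_range _).union (Cs.finite_toSet.image _) |>.union
      (G.finite_toSet.image _)).to_subtype
    exact IntermediateField.finiteDimensional_adjoin fun r _ => Algebra.IsIntegral.isIntegral r
  -- `q`-th powers
  have hLpow : ∀ z : L₁, ∃ l : L, algebraMap L L₁ l = z ^ q ^ n := by
    have h : L₁.toSubfield ≤ (algebraMap L Ω).fieldRange.comap (iterateFrobenius Ω q n) := by
      rw [IntermediateField.adjoin_toSubfield, Subfield.closure_le]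
      rintro a (⟨l, rfl⟩ | (⟨i, rfl⟩ | ⟨c, -, rfl⟩) | ⟨l, -, rfl⟩)
      · exact ⟨l ^ q ^ n, by rw [map_pow, iterateFrobenius_def]⟩
      · exact ⟨xL i, by rw [iterateFrobenius_def, hrt]⟩
      · exact ⟨c, by rw [iterateFrobenius_def, hrt]⟩
      · exact ⟨l ^ q ^ n, by rw [map_pow, iterateFrobenius_def]⟩
    intro z
    obtain ⟨l, hl⟩ := h z.2
    rw [iterateFrobenius_def] at hl
    exact ⟨l, Subtype.ext hl⟩
  choose φ₀ hφ₀ using hLpow
  haveI : ExpChar L₁ q := expChar_of_injective_ringHom ((algebraMap L L₁).comp (algebraMap K L)).injective q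
  let φ : L₁ →+* L :=
    { toFun := φ₀
      map_one' := (algebraMap L L₁).injective (by rw [hφ₀, map_one, one_pow])
      map_mul' := fun a b => (algebraMap L L₁).injective (by rw [hφ₀, map_mul, hφ₀, hφ₀, mul_pow])
      map_zero' := (algebraMap L L₁).injective (by rw [hφ₀, map_zero, zero_pow hq])
      map_add' := fun a b => (algebraMap L L₁).injective (by
        rw [hφ₀, map_add, hφ₀, hφ₀, ← iterateFrobenius_def q n, ← iterateFrobenius_def q n,
          ← iterateFrobenius_def q n, map_add]) }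
  have hφ : ∀ z, algebraMap L L₁ (φ z) = z ^ q ^ n := hφ₀
  have hφL : ∀ l, φ (algebraMap L L₁ l) = l ^ q ^ n := fun l =>
    (algebraMap L L₁).injective (by rw [hφ, map_pow])
  have hK₀L : K₀.toSubfield ≤ L₁.toSubfield := by
    rw [IntermediateField.adjoin_toSubfield, Subfield.closure_le]
    rintro a (⟨k, rfl⟩ | ha)
    · exact IsScalarTower.algebraMap_apply K L Ω k ▸ L₁.algebraMap_mem _
    · exact IntermediateField.subset_adjoin _ _ (Or.inl (Or.inr ha))
  letI : Algebra K₀ L₁ := (Subfield.inclusion hK₀L).toAlgebra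
  haveI : IsScalarTower K K₀ L₁ := .of_algebraMap_eq fun k => Subtype.ext (by
    show algebraMap K Ω k = _
    rfl)
  -- the valuation rings
  have hfrac : ∀ y : L, ∃ a b : B, algebraMap B L b ≠ 0 ∧ y * algebraMap B L b = algebraMap B L a := by
    intro y
    obtain ⟨a, b, hb, rfl⟩ := IsFractionRing.div_surjective (A := B) y
    have hb' : algebraMap B L b ≠ 0 :=
      (map_ne_zero_iff _ (IsFractionRing.injective B L)).2 (nonZeroDivisors.ne_zero hb)
    exact ⟨a, b, hb', div_mul_cancel₀ _ hb'⟩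
  let Vb := Ram24.rangeVS (algebraMap B L) hfrac
  have hVb : ∀ b : B, algebraMap B L b ∈ Vb := fun b => ⟨b, rfl⟩
  have hVbm : ∀ b : B, Vb.valuation (algebraMap B L b) < 1 ↔ b ∈ maximalIdeal B := by
    intro b
    let g : B →+* Vb := (algebraMap B L).codRestrict Vb hVb
    have hg : Function.Bijective g := ⟨fun a c h => IsFractionRing.injective B L (congrArg Subtype.val h :),
      fun ⟨y, hy⟩ => by obtain ⟨c, hc⟩ := hy; exact ⟨c, Subtype.ext hc⟩⟩
    rw [show algebraMap B L b = ((g b : Vb) : L) from rfl, ← Vb.valuation_lt_one_iff, mem_maximalIdeal,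
      mem_maximalIdeal, mem_nonunits_iff, mem_nonunits_iff]
    refine not_congr ⟨fun h => ?_, fun h => h.map g⟩
    have h' := h.map (RingEquiv.ofBijective g hg).symm
    rwa [show g b = RingEquiv.ofBijective g hg b from rfl, RingEquiv.symm_apply_apply] at h' 
  let B₁ : ValuationSubring L₁ := Vb.comap φ
  have hB₁dom : EtRam.Dominates B ((algebraMap L L₁).comp (algebraMap B L)) B₁ := by
    refine ⟨fun b => ?_, fun b hb => ?_⟩
    · show φ _ ∈ Vb
      rw [RingHom.comp_apply, hφL]
      exact pow_mem (hVb b) _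
    · rw [val_comap_lt_one, RingHom.comp_apply, hφL, map_pow, pow_lt_one_iff hq]
      exact (hVbm b).2 hb
  haveI : IsDiscreteValuationRing B₁ := Ram24.dvr_of_dominates (B := B) (L := L) B₁ hB₁dom
  let A₁ : ValuationSubring K₀ := B₁.comap (algebraMap K₀ L₁)
  have hKA : ∀ k : K, algebraMap K₀ L₁ (algebraMap K K₀ k) = algebraMap L L₁ (algebraMap K L k) := fun k => by
    rw [← IsScalarTower.algebraMap_apply, IsScalarTower.algebraMap_apply K L L₁]
  haveI : IsDiscreteValuationRing A₁ := by
    refine Ram24.dvr_of_dominates (B := A) (L := K) A₁ ⟨fun a => ?_, fun a ha => ?_⟩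
    · show algebraMap K₀ L₁ (algebraMap K K₀ (algebraMap A K a)) ∈ B₁
      rw [hKA, ← IsScalarTower.algebraMap_apply A K L, IsScalarTower.algebraMap_apply A B L]
      exact hB₁dom.1 _
    · rw [val_comap_lt_one, RingHom.comp_apply, hKA, ← IsScalarTower.algebraMap_apply A K L,
        IsScalarTower.algebraMap_apply A B L]
      exact hB₁dom.2 _ (map_nonunit _ a ha)
  letI : Algebra A₁ B₁ := (EtRam.inclOfComap B₁ (algebraMap K₀ L₁)).toAlgebra
  haveI : IsLocalHom (algebraMap A₁ B₁) := EtRam.isLocalHom_inclOfComap B₁ (algebraMap K₀ L₁)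
  letI : Algebra A₁ L₁ := ((algebraMap K₀ L₁).comp (algebraMap A₁ K₀)).toAlgebra
  haveI : IsScalarTower A₁ K₀ L₁ := .of_algebraMap_eq fun _ => rfl
  haveI : IsScalarTower A₁ B₁ L₁ := .of_algebraMap_eq fun _ => rfl
  -- powers of elements of `K₀`
  have hK₀pow : ∀ c : K₀, ∃ k : K, algebraMap K K₀ k = c ^ q ^ n := by
    have h : K₀.toSubfield ≤ (algebraMap K Ω).fieldRange.comap (iterateFrobenius Ω q n) := by
      rw [IntermediateField.adjoin_toSubfield, Subfield.closure_le]
      rintro a (⟨k, rfl⟩ | ⟨c, hc, rfl⟩)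
      · exact ⟨k ^ q ^ n, by rw [map_pow, iterateFrobenius_def]⟩
      · obtain ⟨l, -, hl⟩ := Finset.mem_biUnion.1 hc
        obtain ⟨i, -, hi⟩ := Finset.mem_biUnion.1 hl
        obtain ⟨k, hk⟩ := hC _ hi
        exact ⟨k, by rw [iterateFrobenius_def, hrt, ← hk, ← IsScalarTower.algebraMap_apply]⟩
    intro c
    obtain ⟨k, hk⟩ := h c.2
    rw [iterateFrobenius_def] at hk
    exact ⟨k, Subtype.ext hk⟩
  have hg₀ : ∀ a : A₁, ∃ a' : A, algebraMap B L (algebraMap A B a') = φ (algebraMap K₀ L₁ (a : K₀)) := by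
    intro a
    obtain ⟨k, hk⟩ := hK₀pow (a : K₀)
    obtain ⟨b, hb⟩ : φ (algebraMap K₀ L₁ (a : K₀)) ∈ Vb := a.2
    have hkb : algebraMap K L k = algebraMap B L b := by
      rw [hb]
      refine (algebraMap L L₁).injective ?_
      rw [hφ, ← map_pow, ← hk, hKA]
    rcases ValuationRing.isInteger_or_isInteger A k with ⟨c, hc⟩ | ⟨c, hc⟩
    · refine ⟨c, ?_⟩
      rw [← hb, ← hkb, ← hc, ← IsScalarTower.algebraMap_apply A B L, IsScalarTower.algebraMap_apply A K L]
    · rcases eq_or_ne k 0 with rfl | hk0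
      · exact ⟨0, by rw [← hb, ← hkb, map_zero, map_zero, map_zero]⟩
      have h1 : b * algebraMap A B c = 1 := by
        apply IsFractionRing.injective B L
        rw [map_mul, map_one, ← hkb, ← IsScalarTower.algebraMap_apply A B L,
          IsScalarTower.algebraMap_apply A K L, hc, ← map_mul, mul_inv_cancel₀ hk0, map_one]
      have hcu : IsUnit c := isUnit_of_map_unit (algebraMap A B) c
        (IsUnit.of_mul_eq_one b (by rw [mul_comm]; exact h1))
      refine ⟨(hcu.unit⁻¹ : Aˣ), ?_⟩
      have h2 : algebraMap A B ((hcu.unit⁻¹ : Aˣ) : A) = b := by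
        calc algebraMap A B ((hcu.unit⁻¹ : Aˣ) : A)
            = (b * algebraMap A B c) * algebraMap A B ((hcu.unit⁻¹ : Aˣ) : A) := by rw [h1, one_mul]
          _ = b := by rw [mul_assoc, ← map_mul, hcu.mul_val_inv, map_one, mul_one]
      rw [h2, hb]
  choose g₀ hg₀' using hg₀
  have hinjAL : Function.Injective ((algebraMap B L).comp (algebraMap A B)) :=
    (IsFractionRing.injective B L).comp hinj
  let g : A₁ →+* A :=
    { toFun := g₀
      map_one' := hinjAL (by simp [RingHom.comp_apply, hg₀'])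
      map_mul' := fun a b => hinjAL (by simp [RingHom.comp_apply, hg₀'])
      map_zero' := hinjAL (by simp [RingHom.comp_apply, hg₀'])
      map_add' := fun a b => hinjAL (by simp [RingHom.comp_apply, hg₀']) }
  have hg : ∀ a : A₁, algebraMap B L (algebraMap A B (g a)) = φ (algebraMap K₀ L₁ (a : K₀)) := hg₀'
  -- the variables
  let x₁ : σ → L₁ := fun i => ⟨rt (xL i), IntermediateField.subset_adjoin _ _ (Or.inl (Or.inl ⟨i, rfl⟩))⟩
  have hφx : ∀ i, φ (x₁ i) = xL i := fun i => (algebraMap L L₁).injective (by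
    rw [hφ]; exact Subtype.ext (hrt (xL i)))
  let xB₁ : σ → B₁ := fun i => ⟨x₁ i, by show φ (x₁ i) ∈ Vb; rw [hφx]; exact hVb _⟩
  have hunit₁ : ∀ P : MvPolynomial σ A₁, (∃ m, IsUnit (P.coeff m)) → IsUnit (MvPolynomial.aeval xB₁ P) := by
    rintro P ⟨m, hm⟩
    have h1 := hunit (P.map g) ⟨m, by rw [MvPolynomial.coeff_map]; exact hm.map g⟩
    have e : φ ((MvPolynomial.aeval xB₁ P : B₁) : L₁) =
        algebraMap B L (MvPolynomial.aeval xB (P.map g)) := by
      rw [MvPolynomial.aeval_def, MvPolynomial.aeval_def, MvPolynomial.eval₂_map, MvPolynomial.eval₂_comp_left]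
      show (φ.comp B₁.subtype) _ = _
      rw [MvPolynomial.eval₂_comp_left]
      congr 1
      · ext a
        exact (hg a).symm
      · funext i
        exact hφx i
    by_contra hu
    have h2 := (B₁.valuation_lt_one_iff _).1 ((mem_maximalIdeal _).2 hu)
    rw [val_comap_lt_one, e, hVbm] at h2
    exact (mem_maximalIdeal _).1 h2 h1
  -- generation and separability
  set F₁ := IntermediateField.adjoin K₀ (Set.range x₁)
  let lg : Finset L₁ := G.image (algebraMap L L₁)
  have hmemK : ∀ c : L, c ∈ Cs → c ∈ (F₁.toSubfield.map φ) := fun c hc =>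
    ⟨algebraMap K₀ L₁ ⟨rt c, IntermediateField.subset_adjoin _ _ ⟨c, hc, rfl⟩⟩, F₁.algebraMap_mem _,
      (algebraMap L L₁).injective (by rw [hφ]; exact Subtype.ext (hrt c))⟩
  have hcoef : ∀ l ∈ G, ∀ i, ((P l).coeff i : L) ∈ F₁.toSubfield.map φ := by
    intro l hl i
    by_cases hi : i ∈ (P l).support
    · refine Subfield.closure_le.2 ?_ (hC' ((P l).coeff i))
      rintro c (hc | ⟨j, rfl⟩)
      · exact hmemK c (Finset.mem_biUnion.2 ⟨l, hl, Finset.mem_biUnion.2 ⟨i, hi, hc⟩⟩)
      · exact ⟨x₁ j, IntermediateField.subset_adjoin _ _ ⟨j, rfl⟩, hφx j⟩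
    · rw [Polynomial.notMem_support_iff.1 hi]
      exact zero_mem _
  have hsep : ∀ l ∈ lg, IsSeparable F₁ l := by
    intro l hl
    obtain ⟨l, hlG, rfl⟩ := Finset.mem_image.1 hl
    let i : F₁ →+* L := φ.comp (algebraMap F₁ L₁)
    obtain ⟨Q, hQ⟩ := (Polynomial.mem_lifts (f := i) ((P l).map (algebraMap F L))).1
      ((Polynomial.lifts_iff_coeff_lifts _).2 fun k => by
        rw [Polynomial.coeff_map]
        obtain ⟨z, hz, hzk⟩ := hcoef l hlG k
        exact ⟨⟨z, hz⟩, hzk⟩)
    have hQsep : Q.Separable := (Polynomial.separable_map i).1 (hQ ▸ Polynomial.Separable.map (hn l hlG))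
    refine hQsep.of_dvd (minpoly.dvd _ _ (φ.injective ?_))
    rw [map_zero, Polynomial.aeval_def, Polynomial.hom_eval₂, ← Polynomial.eval_map, hQ, hφL,
      Polynomial.eval_map, ← Polynomial.aeval_def]
    exact minpoly.aeval F (l ^ q ^ n)
  have hgen : IntermediateField.adjoin K₀ (Set.range (fun i => algebraMap B₁ L₁ (xB₁ i)) ∪ (lg : Set L₁)) = ⊤ := by
    set Z := IntermediateField.adjoin K₀ (Set.range (fun i => algebraMap B₁ L₁ (xB₁ i)) ∪ (lg : Set L₁))
    have hK : ∀ k : K, algebraMap L L₁ (algebraMap K L k) ∈ Z := fun k => hKA k ▸ Z.algebraMap_mem _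
    have hxZ : ∀ i, x₁ i ∈ Z := fun i => IntermediateField.subset_adjoin _ _ (Or.inl ⟨i, rfl⟩)
    have hF : ∀ f : F, algebraMap L L₁ (f : L) ∈ Z := fun f =>
      mem_of_mem_adjoin (s := Set.range xL) (algebraMap L L₁) Z.toSubfield hK (fun c ⟨i, hi⟩ => by
        rw [← hi, ← hφx i, hφ]
        exact pow_mem (hxZ i) _) f.2
    have hL : ∀ l : L, algebraMap L L₁ l ∈ Z := fun l => by
      rw [← (Module.finBasis F L).sum_repr l, map_sum]
      refine sum_mem fun i _ => ?_
      rw [Algebra.smul_def, map_mul]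
      exact mul_mem (hF _) (IntermediateField.subset_adjoin _ _
        (Or.inr (Finset.mem_coe.2 (Finset.mem_image_of_mem _ (Finset.mem_image_of_mem _ (Finset.mem_univ i))))))
    rw [eq_top_iff]
    rintro ⟨z, hz⟩ -
    suffices h : ∃ h' : z ∈ L₁, (⟨z, h'⟩ : L₁) ∈ Z from h.2
    have hz' : z ∈ IntermediateField.adjoin L S := hz
    clear hz
    induction hz' using IntermediateField.adjoin_induction with
    | mem z hz =>
      rcases hz with (⟨i, rfl⟩ | ⟨c, hc, rfl⟩) | ⟨l, hl, rfl⟩
      · exact ⟨(x₁ i).2, hxZ i⟩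
      · exact ⟨IntermediateField.subset_adjoin _ _ (Or.inl (Or.inr ⟨c, hc, rfl⟩)),
          Z.algebraMap_mem (⟨rt c, IntermediateField.subset_adjoin _ _ ⟨c, hc, rfl⟩⟩ : K₀)⟩
      · exact ⟨L₁.algebraMap_mem l, hL l⟩
    | algebraMap l => exact ⟨L₁.algebraMap_mem l, hL l⟩
    | add a b _ _ ha hb => exact ⟨add_mem ha.1 hb.1, Z.add_mem ha.2 hb.2⟩
    | inv a _ ha => exact ⟨inv_mem ha.1, Z.inv_mem ha.2⟩
    | mul a b _ _ ha hb => exact ⟨mul_mem ha.1 hb.1, Z.mul_mem ha.2 hb.2⟩
  obtain ⟨K₁, iK, aK, fK, hsol⟩ := solution_of_separable A₁ B₁ K₀ L₁ xB₁ hunit₁ lg hgen hsep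
  refine solution_transfer B K L K₀ L₁ q n hK₀pow B₁ (fun z hz => ?_) (fun z b hb hlt => ?_) K₁ hsol
  · obtain ⟨b, hb⟩ := (hz : φ z ∈ Vb)
    exact ⟨b, by rw [hb, hφ]⟩
  · rw [val_comap_lt_one] at hlt
    refine (hVbm b).1 ?_
    rwa [show algebraMap B L b = φ z from (algebraMap L L₁).injective (by rw [hb, hφ])]

end Groth.Agent.Sol23
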