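import Mathlib.RingTheory.DiscreteValuationRing.Basic
import Mathlib.RingTheory.Valuation.ValuationSubring
import Mathlib.RingTheory.IntegralClosure.IntegrallyClosed
import Mathlib.FieldTheory.IntermediateField.Adjoin.Basic
import Mathlib.FieldTheory.IsAlgClosed.Basic
import Mathlib.Algebra.Polynomial.Lifts
import Mathlib.RingTheory.LocalRing.ResidueField.Basic
import Mathlib.RingTheory.Ideal.GoingUp
import Mathlib.RingTheory.Valuation.LocalSubring
import Mathlib.RingTheory.Polynomial.RationalRoot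

/-!
# An unramified algebraic extension with algebraically closed residue field

For a discrete valuation ring `A` with uniformizer `π`, a subfield `T` of an algebraically closed
extension is unramified when every element is a power of `π` times a unit of the integral closure of
`A`. A maximal such `T` has algebraically closed residue field.
-/

set_option autoImplicit false
set_option linter.style.haveILetI false
set_option linter.unusedSectionVars false

universe u

open IsLocalRing Polynomial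

namespace Groth.Agent.Sol23

variable {A : Type u} [CommRing A] [IsDomain A] [IsDiscreteValuationRing A]
  {K : Type u} [Field K] [Algebra A K] [IsFractionRing A K]
  {Ω : Type u} [Field Ω] [Algebra K Ω] [Algebra A Ω] [IsScalarTower A K Ω] (π : A)

/-- Every element is a power of `π` times a unit of the integral closure. -/
def IsUnr (T : IntermediateField K Ω) : Prop :=
  (∀ a ∈ T, IsAlgebraic K a) ∧ ∀ x ∈ T, x ≠ 0 →
    ∃ n : ℤ, IsIntegral A (x / algebraMap A Ω π ^ n) ∧ IsIntegral A (algebraMap A Ω π ^ n / x)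

variable {π} (hπ : Irreducible π)

include hπ

include K in
theorem pi_ne_zero : algebraMap A Ω π ≠ 0 := by
  rw [IsScalarTower.algebraMap_apply A K Ω, Ne, map_eq_zero,
    map_eq_zero_iff _ (IsFractionRing.injective A K)]
  exact hπ.ne_zero

include K in
theorem pi_inv_not_isIntegral : ¬ IsIntegral A (algebraMap A Ω π)⁻¹ := by
  intro h
  rw [IsScalarTower.algebraMap_apply A K Ω, ← map_inv₀,
    isIntegral_algebraMap_iff (algebraMap K Ω).injective] at h
  obtain ⟨b, hb⟩ := IsIntegrallyClosed.algebraMap_eq_of_integral h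
  refine hπ.not_isUnit (IsUnit.of_mul_eq_one b (IsFractionRing.injective A K ?_))
  rw [map_mul, hb, map_one, mul_inv_cancel₀]
  rw [Ne, map_eq_zero_iff _ (IsFractionRing.injective A K)]
  exact hπ.ne_zero

theorem isUnr_bot : IsUnr (A := A) π (⊥ : IntermediateField K Ω) := by
  refine ⟨fun a ha => ?_, fun x hx hx0 => ?_⟩
  · obtain ⟨k, rfl⟩ := IntermediateField.mem_bot.1 ha
    exact isAlgebraic_algebraMap k
  · obtain ⟨k, rfl⟩ := IntermediateField.mem_bot.1 hx
    obtain ⟨a, b, hb, rfl⟩ := IsFractionRing.div_surjective (A := A) k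
    have hb0 := nonZeroDivisors.ne_zero hb
    have ha0 : a ≠ 0 := fun h => hx0 (by rw [h, map_zero, zero_div, map_zero])
    obtain ⟨i, ua, rfl⟩ := IsDiscreteValuationRing.eq_unit_mul_pow_irreducible ha0 hπ
    obtain ⟨j, ub, rfl⟩ := IsDiscreteValuationRing.eq_unit_mul_pow_irreducible hb0 hπ
    have hp := pi_ne_zero (K := K) (Ω := Ω) hπ
    have hu : ∀ u : Aˣ, algebraMap A Ω (u : A) ≠ 0 := fun u => (u.isUnit.map (algebraMap A Ω)).ne_zero
    have e : algebraMap K Ω (algebraMap A K (↑ua * π ^ i) / algebraMap A K (↑ub * π ^ j)) =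
        algebraMap A Ω ((ua * ub⁻¹ : Aˣ) : A) * algebraMap A Ω π ^ ((i : ℤ) - j) := by
      have h1 : algebraMap A Ω ((ub⁻¹ : Aˣ) : A) = (algebraMap A Ω (ub : A))⁻¹ :=
        eq_inv_of_mul_eq_one_left (by rw [← map_mul, ub.inv_mul, map_one])
      rw [map_div₀, ← IsScalarTower.algebraMap_apply, ← IsScalarTower.algebraMap_apply, Units.val_mul,
        map_mul, map_mul, map_mul, map_pow, map_pow, h1, zpow_sub₀ hp, zpow_natCast, zpow_natCast]
      field_simp
    refine ⟨(i : ℤ) - j, ?_, ?_⟩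
    · rw [e, mul_div_assoc, div_self (zpow_ne_zero _ hp), mul_one]
      exact isIntegral_algebraMap
    · rw [e, mul_comm, ← div_div, div_self (zpow_ne_zero _ hp), one_div]
      have h2 : (algebraMap A Ω ((ua * ub⁻¹ : Aˣ) : A))⁻¹ = algebraMap A Ω (((ua * ub⁻¹)⁻¹ : Aˣ) : A) :=
        (eq_inv_of_mul_eq_one_right (by rw [← map_mul, Units.mul_inv, map_one])).symm
      rw [h2]
      exact isIntegral_algebraMap

variable {T : IntermediateField K Ω}

theorem isIntegral_or_inv (hT : IsUnr (A := A) π T) {x : Ω} (hx : x ∈ T) :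
    IsIntegral A x ∨ IsIntegral A x⁻¹ := by
  rcases eq_or_ne x 0 with rfl | hx0
  · exact Or.inl isIntegral_zero
  obtain ⟨n, h1, h2⟩ := hT.2 x hx hx0
  have hp := pi_ne_zero (K := K) (Ω := Ω) hπ
  have hpi : ∀ m : ℕ, IsIntegral A (algebraMap A Ω π ^ m) := fun m =>
    (map_pow (algebraMap A Ω) π m) ▸ isIntegral_algebraMap
  rcases le_total 0 n with h | h
  · obtain ⟨m, rfl⟩ := Int.eq_ofNat_of_zero_le h
    left
    have := h1.mul (hpi m)
    rwa [zpow_natCast, div_mul_cancel₀ _ (pow_ne_zero _ hp)] at this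
  · obtain ⟨m, rfl⟩ : ∃ m : ℕ, n = -(m : ℤ) := ⟨n.natAbs, by omega⟩
    right
    have := h2.mul (hpi m)
    rwa [zpow_neg, zpow_natCast, div_eq_mul_inv, mul_assoc, mul_comm x⁻¹, ← mul_assoc,
      inv_mul_cancel₀ (pow_ne_zero _ hp), one_mul] at this

/-- An element of `T` that is not a unit is divisible by `π`. -/
theorem isIntegral_div (hT : IsUnr (A := A) π T) {x : Ω} (hx : x ∈ T) (h : IsIntegral A x)
    (hn : ¬ IsIntegral A x⁻¹) : IsIntegral A (x / algebraMap A Ω π) := by
  rcases eq_or_ne x 0 with rfl | hx0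
  · rw [zero_div]; exact isIntegral_zero
  obtain ⟨n, h1, h2⟩ := hT.2 x hx hx0
  have hp := pi_ne_zero (K := K) (Ω := Ω) hπ
  rcases le_or_gt n 0 with hn0 | hn0
  · obtain ⟨m, rfl⟩ : ∃ m : ℕ, n = -(m : ℤ) := ⟨n.natAbs, by omega⟩
    refine absurd ?_ hn
    have := h2.mul (show IsIntegral A (algebraMap A Ω π ^ m) from
      (map_pow (algebraMap A Ω) π m) ▸ isIntegral_algebraMap)
    rwa [zpow_neg, zpow_natCast, div_eq_mul_inv, mul_assoc, mul_comm x⁻¹, ← mul_assoc,
      inv_mul_cancel₀ (pow_ne_zero _ hp), one_mul] at this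
  · obtain ⟨m, rfl⟩ : ∃ m : ℕ, n = (m : ℤ) + 1 := ⟨(n - 1).toNat, by omega⟩
    have := h1.mul (show IsIntegral A (algebraMap A Ω π ^ m) from
      (map_pow (algebraMap A Ω) π m) ▸ isIntegral_algebraMap)
    rwa [zpow_add_one₀ hp, zpow_natCast, div_mul_eq_div_div, div_right_comm,
      div_mul_cancel₀ _ (pow_ne_zero _ hp)] at this

/-- Valuation subrings over `A` meet `T` in the integral elements. -/
theorem mem_iff_isIntegral_of_unr (hT : IsUnr (A := A) π T) (W : ValuationSubring Ω)
    (hA : ∀ a, algebraMap A Ω a ∈ W) (hπW : W.valuation (algebraMap A Ω π) < 1) {x : Ω} (hx : x ∈ T) :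
    x ∈ W ↔ IsIntegral A x := by
  have hint : ∀ y : Ω, IsIntegral A y → y ∈ W := fun y hy => by
    obtain ⟨f, hf, hfy⟩ := hy
    let g : A →+* W := (algebraMap A Ω).codRestrict W hA
    have h1 : IsIntegral W y := by
      refine ⟨f.map g, hf.map g, ?_⟩
      rw [eval₂_map]
      exact hfy
    obtain ⟨w, hw⟩ := IsIntegrallyClosed.algebraMap_eq_of_integral h1
    exact hw ▸ w.2
  refine ⟨fun hW => ?_, hint x⟩
  by_contra hni
  obtain ⟨h, hn⟩ : IsIntegral A x⁻¹ ∧ ¬ IsIntegral A x⁻¹⁻¹ :=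
    ⟨(isIntegral_or_inv hπ hT hx).resolve_left hni, by rwa [inv_inv]⟩
  have hd := hint _ (isIntegral_div hπ hT (T.inv_mem hx) h hn)
  have hx0 : x ≠ 0 := fun h0 => hni (h0 ▸ isIntegral_zero)
  have h2 : (algebraMap A Ω π)⁻¹ ∈ W := by
    have := mul_mem hd hW
    rwa [div_mul_eq_mul_div, inv_mul_cancel₀ hx0, one_div] at this
  rw [← W.valuation_le_one_iff, map_inv₀] at h2
  have hp := W.valuation.ne_zero_iff.2 (pi_ne_zero (K := K) (Ω := Ω) hπ)
  exact absurd ((inv_le_one₀ (zero_lt_iff.2 hp)).1 h2) (not_le.2 hπW)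

/-- The ring of `T`. -/
theorem exists_ring (hT : IsUnr (A := A) π T) :
    ∃ V : ValuationSubring T, (∀ y : T, y ∈ V ↔ IsIntegral A (y : Ω)) ∧ IsDiscreteValuationRing V ∧
      ∀ y : V, y ∈ maximalIdeal V → IsIntegral A (((y : T) : Ω) / algebraMap A Ω π) := by
  let R : Subring T := ((integralClosure A Ω).toSubring).comap T.val.toRingHom
  let V := ValuationSubring.ofSubring R fun y => by
    rcases isIntegral_or_inv hπ hT y.2 with h | h
    · exact Or.inl h
    · exact Or.inr h
  have hmem : ∀ y : T, y ∈ V ↔ IsIntegral A (y : Ω) := fun y => Iff.rfl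
  have hunit : ∀ y : V, IsUnit y ↔ ((y : T) : Ω) ≠ 0 ∧ IsIntegral A ((y : T) : Ω)⁻¹ := by
    intro y
    constructor
    · rintro ⟨w, rfl⟩
      have h1 : (((w : V) : T) : Ω) * ((((w⁻¹ : Vˣ) : V) : T) : Ω) = 1 :=
        congrArg (fun v : V => ((v : T) : Ω)) w.mul_inv
      refine ⟨left_ne_zero_of_mul_eq_one h1, ?_⟩
      rw [← eq_inv_of_mul_eq_one_right h1]
      exact ((w⁻¹ : Vˣ) : V).2
    · rintro ⟨h0, h⟩
      refine IsUnit.of_mul_eq_one ⟨(y : T)⁻¹, h⟩ (Subtype.ext ?_)
      show (y : T) * (y : T)⁻¹ = 1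
      exact mul_inv_cancel₀ fun h1 => h0 (congrArg Subtype.val h1)
  refine ⟨V, hmem, ?_, fun y hy => ?_⟩
  · let w : V := ⟨⟨algebraMap A Ω π, by
      rw [IsScalarTower.algebraMap_apply A K Ω]; exact T.algebraMap_mem _⟩, isIntegral_algebraMap⟩
    have hw : Irreducible w := by
      refine ⟨fun h => pi_inv_not_isIntegral (K := K) hπ ((hunit w).1 h).2, fun a b hab => ?_⟩
      by_contra! hc
      obtain ⟨ha, hb⟩ := hc
      have hab' : algebraMap A Ω π = ((a : T) : Ω) * ((b : T) : Ω) :=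
        congrArg (fun v : V => ((v : T) : Ω)) hab
      have hp := pi_ne_zero (K := K) (Ω := Ω) hπ
      have ha0 : ((a : T) : Ω) ≠ 0 := fun h => hp (by rw [hab', h, zero_mul])
      have hb0 : ((b : T) : Ω) ≠ 0 := fun h => hp (by rw [hab', h, mul_zero])
      have h1 := isIntegral_div hπ hT (a : T).2 a.2 fun h => ha ((hunit a).2 ⟨ha0, h⟩)
      have h2 := isIntegral_div hπ hT (b : T).2 b.2 fun h => hb ((hunit b).2 ⟨hb0, h⟩)
      refine pi_inv_not_isIntegral (K := K) (Ω := Ω) hπ ?_
      have := h1.mul h2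
      rwa [div_mul_div_comm, ← hab', div_mul_eq_div_div, div_self hp, one_div] at this
    refine IsDiscreteValuationRing.ofHasUnitMulPowIrreducibleFactorization ⟨w, hw, fun {y} hy0 => ?_⟩
    have hy' : ((y : T) : Ω) ≠ 0 := fun h => hy0 (Subtype.ext (Subtype.ext h))
    obtain ⟨n, h1, h2⟩ := hT.2 _ (y : T).2 hy'
    have hp := pi_ne_zero (K := K) (Ω := Ω) hπ
    have hn : 0 ≤ n := by
      by_contra hneg
      obtain ⟨m, rfl⟩ : ∃ m : ℕ, n = -((m : ℤ) + 1) := ⟨(-n - 1).toNat, by omega⟩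
      refine pi_inv_not_isIntegral (K := K) (Ω := Ω) hπ ?_
      have := (h2.mul ((hmem (y : T)).1 y.2)).mul (show IsIntegral A (algebraMap A Ω π ^ m) from
        (map_pow (algebraMap A Ω) π m) ▸ isIntegral_algebraMap)
      rwa [div_mul_cancel₀ _ hy', zpow_neg, zpow_add_one₀ hp, zpow_natCast, mul_inv, mul_right_comm,
        inv_mul_cancel₀ (pow_ne_zero _ hp), one_mul] at this
    obtain ⟨m, rfl⟩ := Int.eq_ofNat_of_zero_le hn
    rw [zpow_natCast] at h1 h2
    let q : T := (y : T) / ⟨algebraMap A Ω π, by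
      rw [IsScalarTower.algebraMap_apply A K Ω]; exact T.algebraMap_mem _⟩ ^ m
    have hq : (q : Ω) = ((y : T) : Ω) / algebraMap A Ω π ^ m := by simp [q]
    have hqu : IsUnit (⟨q, (hmem q).2 (hq ▸ h1)⟩ : V) := by
      refine (hunit _).2 ⟨?_, ?_⟩
      · show (q : Ω) ≠ 0
        rw [hq]; exact div_ne_zero hy' (pow_ne_zero _ hp)
      · show IsIntegral A (q : Ω)⁻¹
        rw [hq, inv_div]; exact h2
    refine ⟨m, hqu.unit, Subtype.ext (Subtype.ext ?_)⟩
    show algebraMap A Ω π ^ m * (q : Ω) = ((y : T) : Ω)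
    rw [hq, mul_div_cancel₀ _ (pow_ne_zero _ hp)]
  · rcases eq_or_ne ((y : T) : Ω) 0 with h0 | h0
    · rw [h0, zero_div]; exact isIntegral_zero
    refine isIntegral_div hπ hT (y : T).2 y.2 fun h => ?_
    exact (mem_maximalIdeal y).1 hy ((hunit y).2 ⟨h0, h⟩)

/-- Adjoining a root of a polynomial irreducible modulo `π` keeps `T` unramified. -/
theorem isUnr_adjoin (hT : IsUnr (A := A) π T) {V : ValuationSubring T}
    (hV : ∀ y : T, y ∈ V ↔ IsIntegral A (y : Ω)) [IsDiscreteValuationRing V]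
    {P : V[X]} (hP : P.Monic) (hirr : Irreducible (P.map (residue V))) {θ : Ω}
    (hθ : (P.map (algebraMap V T)).aeval θ = 0) :
    IsUnr (A := A) π (IntermediateField.restrictScalars K (IntermediateField.adjoin T ({θ} : Set Ω))) := by
  letI : Algebra V Ω := ((algebraMap T Ω).comp (algebraMap V T)).toAlgebra
  haveI : IsScalarTower V T Ω := .of_algebraMap_eq fun _ => rfl
  have hθ' : aeval θ P = 0 := by rwa [aeval_map_algebraMap] at hθ
  have hθV : IsIntegral V θ := ⟨P, hP, hθ'⟩
  have hθT : IsIntegral T θ := hθV.tower_top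
  have hiA : ∀ z ∈ Algebra.adjoin V ({θ} : Set Ω), IsIntegral A z := by
    have h1 : ∀ c : V, IsIntegral A (algebraMap V Ω c) := fun c => (hV c).1 c.2
    have h2 : IsIntegral A θ := by
      refine isIntegral_trans (R := A) (A := integralClosure A Ω) _ ?_
      refine ⟨P.map ((algebraMap V Ω).codRestrict (integralClosure A Ω) h1), hP.map _, ?_⟩
      rw [eval₂_map]
      exact hθ'
    intro z hz
    induction hz using Algebra.adjoin_induction with
    | mem z hz => rw [Set.mem_singleton_iff.1 hz]; exact h2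
    | algebraMap c => exact h1 c
    | add a b _ _ ha hb => exact ha.add hb
    | mul a b _ _ ha hb => exact ha.mul hb
  refine ⟨fun a ha => ?_, fun x hx hx0 => ?_⟩
  · haveI : Algebra.IsAlgebraic K T := ⟨fun t =>
      (isAlgebraic_algebraMap_iff (A := Ω) (algebraMap T Ω).injective).1 (hT.1 _ t.2)⟩
    have h1 : IsIntegral T a := by
      haveI := IntermediateField.adjoin.finiteDimensional hθT
      exact (IsIntegral.of_finite T (⟨a, ha⟩ : IntermediateField.adjoin T ({θ} : Set Ω))).map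
        (IntermediateField.adjoin T ({θ} : Set Ω)).val
    exact (isIntegral_trans (R := K) a h1).isAlgebraic
  obtain ⟨ϖ, hϖ⟩ := IsDiscreteValuationRing.exists_irreducible V
  have hp := pi_ne_zero (K := K) (Ω := Ω) hπ
  -- reduce the degree
  rw [IntermediateField.mem_restrictScalars, ← IntermediateField.mem_toSubalgebra,
    IntermediateField.adjoin_simple_toSubalgebra_of_isAlgebraic hθT.isAlgebraic,
    Algebra.adjoin_singleton_eq_range_aeval] at hx
  obtain ⟨Q₁, hQ₁ : aeval θ Q₁ = x⟩ := hx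
  set P₁ := P.map (algebraMap V T)
  have hP₁ : P₁.Monic := hP.map _
  let Q := Q₁ %ₘ P₁
  have hQθ : aeval θ Q = x := by
    rw [← hQ₁]
    conv_rhs => rw [← modByMonic_add_div Q₁ P₁, map_add, map_mul, hθ, zero_mul, add_zero]
  have hQ0 : Q ≠ 0 := fun h => hx0 (by rw [← hQθ, h, map_zero])
  have hdeg : Q.degree < P.degree := by
    refine (degree_modByMonic_lt Q₁ hP₁).trans_le ?_
    exact degree_map_le
  -- clear the largest coefficient
  obtain ⟨m, hm, hmax⟩ := Q.support.exists_max_image (fun i => V.valuation (Q.coeff i))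
    (support_nonempty.2 hQ0)
  set c := Q.coeff m
  have hc : c ≠ 0 := mem_support_iff.1 hm
  have hQc : ∀ i, c⁻¹ * Q.coeff i ∈ V := fun i => by
    by_cases hi : Q.coeff i = 0
    · rw [hi, mul_zero]; exact V.zero_mem
    rw [← V.valuation_le_one_iff, map_mul, map_inv₀]
    exact (inv_mul_le_one₀ (zero_lt_iff.2 (V.valuation.ne_zero_iff.2 hc))).2
      (hmax i (mem_support_iff.2 hi))
  obtain ⟨Q₀, hQ₀⟩ := (mem_lifts (f := algebraMap V T) (C c⁻¹ * Q)).1
    ((lifts_iff_coeff_lifts _).2 fun i => ⟨⟨_, hQc i⟩, (coeff_C_mul Q).symm⟩)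
  have hQ₀m : Q₀.coeff m = 1 := by
    have := congrArg (fun q => coeff q m) hQ₀
    simp only [coeff_map, coeff_C_mul] at this
    refine (IsFractionRing.injective V T) ?_
    rw [map_one, this]
    exact inv_mul_cancel₀ hc
  set u := aeval θ Q₀
  have hcu : x = (c : Ω) * u := by
    have h1 : u = aeval θ (C c⁻¹ * Q) := by rw [← hQ₀, aeval_map_algebraMap]
    rw [h1, map_mul, aeval_C, hQθ, map_inv₀]
    show x = (c : Ω) * ((c : Ω)⁻¹ * x)
    rw [mul_inv_cancel_left₀]
    exact fun h => hc (Subtype.ext h)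
  -- the residue is prime to `P`
  have hred : Q₀.map (residue V) ≠ 0 := fun h => by
    have := congrArg (fun q => coeff q m) h
    simp only [coeff_map, hQ₀m, map_one, coeff_zero] at this
    exact one_ne_zero this
  have hdeg0 : Q₀.degree < P.degree := by
    refine lt_of_le_of_lt ?_ hdeg
    rw [← degree_map_eq_of_injective (IsFractionRing.injective V T) Q₀, hQ₀]
    exact (degree_mul_le _ _).trans ((add_le_add degree_C_le le_rfl).trans (zero_add _).le)
  obtain ⟨a, b, hab⟩ : IsCoprime (Q₀.map (residue V)) (P.map (residue V)) := by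
    refine (hirr.coprime_iff_not_dvd.2 fun hdvd => ?_).symm
    have := degree_le_of_dvd hdvd hred
    rw [hP.degree_map] at this
    exact not_lt.2 (this.trans degree_map_le) hdeg0
  obtain ⟨a', rfl⟩ := map_surjective _ residue_surjective a
  obtain ⟨b', rfl⟩ := map_surjective _ residue_surjective b
  have hw : ∀ i, ((a' * Q₀ + b' * P - 1).coeff i) ∈ maximalIdeal V := fun i => by
    rw [← residue_eq_zero_iff, ← coeff_map]
    simp only [Polynomial.map_sub, Polynomial.map_add, Polynomial.map_mul, Polynomial.map_one, hab,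
      sub_self, coeff_zero]
  -- a unit
  let S := Algebra.adjoin V ({θ} : Set Ω)
  haveI : Algebra.IsIntegral V S := ⟨fun z =>
    (isIntegral_algHom_iff S.val Subtype.val_injective).1 (IsIntegral.of_mem_of_fg S hθV.fg_adjoin_singleton _ z.2)⟩
  let uS : S := ⟨u, aeval_mem_adjoin_singleton V θ⟩
  have huS : IsUnit uS := by
    by_contra hnu
    obtain ⟨M, hM, huM⟩ := exists_max_ideal_of_mem_nonunits hnu
    haveI := hM
    have hcomap : M.comap (algebraMap V S) = maximalIdeal V :=
      IsLocalRing.eq_maximalIdeal (Ideal.isMaximal_comap_of_isIntegral_of_isMaximal M)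
    let θS : S := ⟨θ, Algebra.self_mem_adjoin_singleton V θ⟩
    have h1 : aeval θS (a' * Q₀ + b' * P - 1) ∈ M := by
      rw [aeval_eq_sum_range]
      refine Ideal.sum_mem _ fun i _ => ?_
      rw [Algebra.smul_def]
      refine Ideal.mul_mem_right _ _ ?_
      rw [← Ideal.mem_comap, hcomap]
      exact hw i
    have hval : ∀ q : V[X], ((aeval θS q : S) : Ω) = aeval θ q := fun q =>
      (aeval_algHom_apply S.val θS q).symm
    have h2 : aeval θS (a' * Q₀ + b' * P - 1) = aeval θS a' * uS - 1 := by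
      apply Subtype.ext
      simp only [hval, map_sub, map_add, map_mul, map_one, hθ', mul_zero, add_zero,
        AddSubgroupClass.coe_sub, AddMemClass.coe_add, MulMemClass.coe_mul, OneMemClass.coe_one]
      rfl
    have h3 : (1 : S) ∈ M := by
      have := Ideal.sub_mem _ (Ideal.mul_mem_left _ (aeval θS a') huM) (h2 ▸ h1)
      rwa [sub_sub_cancel] at this
    exact hM.ne_top ((Ideal.eq_top_iff_one M).2 h3)
  obtain ⟨n, hn1, hn2⟩ := hT.2 (c : Ω) c.2 fun h => hc (Subtype.ext h)
  have hu0 : u ≠ 0 := fun h => hx0 (by rw [hcu, h, mul_zero])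
  refine ⟨n, ?_, ?_⟩
  · rw [hcu, mul_div_right_comm]
    exact hn1.mul (hiA u uS.2)
  · rw [hcu, div_mul_eq_div_div, div_eq_mul_inv _ u]
    refine hn2.mul ?_
    have h1 : ((huS.unit⁻¹ : Sˣ) : S).1 = u⁻¹ :=
      eq_inv_of_mul_eq_one_right (congrArg Subtype.val huS.unit.mul_inv)
    exact h1 ▸ hiA _ ((huS.unit⁻¹ : Sˣ) : S).2

theorem isUnr_sSup {c : Set (IntermediateField K Ω)} (hc : IsChain (· ≤ ·) c) (hne : c.Nonempty)
    (h : ∀ T ∈ c, IsUnr (A := A) π T) : IsUnr (A := A) π (sSup c) := by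
  have hmem : ∀ a ∈ sSup c, ∃ T ∈ c, a ∈ T := by
    intro a ha
    haveI : Nonempty c := hne.to_subtype
    have hdir : Directed (· ≤ ·) (fun T : c => (T : IntermediateField K Ω)) := hc.directed
    rw [sSup_eq_iSup', ← SetLike.mem_coe, IntermediateField.coe_iSup_of_directed hdir, Set.mem_iUnion] at ha
    obtain ⟨T, hT⟩ := ha
    exact ⟨T, T.2, hT⟩
  refine ⟨fun a ha => ?_, fun x hx hx0 => ?_⟩
  · obtain ⟨T, hT, haT⟩ := hmem a ha
    exact (h T hT).1 a haT
  · obtain ⟨T, hT, hxT⟩ := hmem x hx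
    exact (h T hT).2 x hxT hx0

/-- An unramified algebraic extension with algebraically closed residue field. -/
theorem exists_tower [IsAlgClosed Ω] :
    ∃ (T : IntermediateField K Ω) (V : ValuationSubring T), IsUnr (A := A) π T ∧
      (∀ y : T, y ∈ V ↔ IsIntegral A (y : Ω)) ∧ IsDiscreteValuationRing V ∧
      (∀ y : V, y ∈ maximalIdeal V → IsIntegral A (((y : T) : Ω) / algebraMap A Ω π)) ∧
      IsAlgClosed (ResidueField V) := by
  obtain ⟨T, hTm⟩ := zorn_le₀ {T : IntermediateField K Ω | IsUnr (A := A) π T} fun c hcs hc => by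
    rcases c.eq_empty_or_nonempty with rfl | hne
    · exact ⟨⊥, isUnr_bot hπ, by simp⟩
    · exact ⟨sSup c, isUnr_sSup hπ hc hne fun T hT => hcs hT, fun T hT => le_sSup hT⟩
  have hT : IsUnr (A := A) π T := hTm.prop
  obtain ⟨V, hV, hdvr, hVm⟩ := exists_ring hπ hT
  refine ⟨T, V, hT, hV, hdvr, hVm, IsAlgClosed.of_exists_root _ fun Pb hPm hPirr => ?_⟩
  obtain ⟨P, hPmap, -, hP⟩ := lifts_and_degree_eq_and_monic
    ((mem_lifts (f := residue V) Pb).2 (map_surjective _ residue_surjective Pb)) hPm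
  letI : Algebra V Ω := ((algebraMap T Ω).comp (algebraMap V T)).toAlgebra
  haveI : IsScalarTower V T Ω := .of_algebraMap_eq fun _ => rfl
  have hdeg : ((P.map (algebraMap V T)).map (algebraMap T Ω)).degree ≠ 0 := by
    rw [degree_map, hP.degree_map, ← hP.degree_map (residue V), hPmap]
    exact (degree_pos_of_irreducible hPirr).ne'
  obtain ⟨θ, hθ⟩ := IsAlgClosed.exists_root ((P.map (algebraMap V T)).map (algebraMap T Ω)) hdeg
  rw [IsRoot, eval_map, ← aeval_def] at hθ
  have hmax := isUnr_adjoin hπ hT hV hP (hPmap ▸ hPirr) hθ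
  have hle : T ≤ IntermediateField.restrictScalars K (IntermediateField.adjoin T ({θ} : Set Ω)) :=
    fun a ha => (IntermediateField.adjoin T ({θ} : Set Ω)).algebraMap_mem ⟨a, ha⟩
  have hθT : θ ∈ T := hTm.le_of_ge hmax hle (IntermediateField.mem_adjoin_simple_self T θ)
  let t : T := ⟨θ, hθT⟩
  have htV : t ∈ V := by
    have h1 : aeval t P = 0 := by
      apply (algebraMap T Ω).injective
      rw [map_zero, ← aeval_algebraMap_apply]
      rwa [aeval_map_algebraMap] at hθ
    obtain ⟨w, hw⟩ := IsIntegrallyClosed.algebraMap_eq_of_integral (R := V) (x := t) ⟨P, hP, h1⟩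
    exact hw ▸ w.2
  refine ⟨residue V ⟨t, htV⟩, ?_⟩
  rw [← hPmap, eval_map, eval₂_at_apply]
  refine (congrArg (residue V) ?_).trans (map_zero _)
  apply IsFractionRing.injective V T
  apply (algebraMap T Ω).injective
  rw [map_zero, map_zero, ← Polynomial.aeval_algebraMap_apply_eq_algebraMap_eval,
    ← aeval_algebraMap_apply]
  rwa [aeval_map_algebraMap] at hθ

end Groth.Agent.Sol23
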